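import Cfsg.Agent.H975.Cov.Lin

/-!
# The elements `a` and `b` (TEAM COV, helper975)
-/

set_option autoImplicit false
set_option linter.unusedSectionVars false

namespace Cfsg.Agent.H975.Cov

open Module QuadraticMap Cfsg Cfsg.Geo Cfsg.Agent.LieClassical.OrthCore Cfsg.Agent.H955 Cfsg.Agent.H954.TSing
open Cfsg.Agent.H884.El
open Cfsg.Agent.H951 (fx cm Inv)
open scoped MatrixGroups Matrix

universe u v

section Count

theorem card_dvd_of_free {G X : Type*} [Group G] [Finite G] [MulAction G X] [Finite X]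
    (h : ∀ x : X, MulAction.stabilizer G x = ⊥) : Nat.card G ∣ Nat.card X := by
  classical
  let _ : Fintype G := Fintype.ofFinite G
  let _ : Fintype X := Fintype.ofFinite X
  have h1 := Nat.card_congr (MulAction.selfEquivSigmaOrbitsQuotientStabilizer G X)
  rw [h1, Nat.card_sigma]
  apply Finset.dvd_sum
  intro i _
  rw [h, Nat.card_congr (QuotientGroup.quotientBot (G := G)).toEquiv]

variable {F : Type u} [Field F] {V : Type v} [AddCommGroup V] [Module F V]

/-- a linear map of order nine without vectors of period three. -/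
theorem nine_dvd [Finite V] {T : V ≃ₗ[F] V} (hT : T ^ 9 = 1) {S : Set V} (hS : ∀ w ∈ S, T w ∈ S)
    (hfree : ∀ w ∈ S, (T ^ 3) w ≠ w) (hne : S.Nonempty) : 9 ∣ S.ncard := by
  have hfin : Finite (V ≃ₗ[F] V) := Finite.of_injective (fun g : V ≃ₗ[F] V => (g : V → V)) DFunLike.coe_injective
  have hcard : Nat.card (Subgroup.zpowers T) = 9 := by
    rw [Nat.card_zpowers]
    have h1 : orderOf T ∣ 3 ^ 2 := orderOf_dvd_of_pow_eq_one hT
    obtain ⟨k, hk, hk2⟩ := (Nat.dvd_prime_pow Nat.prime_three).1 h1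
    have h3 : ¬ orderOf T ∣ 3 := by
      intro h
      obtain ⟨w, hw⟩ := hne
      apply hfree w hw
      rw [orderOf_dvd_iff_pow_eq_one.1 h]
      rfl
    interval_cases k
    · exact absurd (by rw [hk2]; norm_num) h3
    · exact absurd (by rw [hk2]; norm_num) h3
    · rw [hk2]; norm_num
  rw [← hcard]
  have hpowS : ∀ (n : ℕ) (w : V), w ∈ S → (T ^ n) w ∈ S := by
    intro n
    induction n with
    | zero => intro w hw; exact hw
    | succ n ih => intro w hw; rw [pow_succ]; exact ih _ (hS w hw)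
  have hnat : ∀ m ∈ Subgroup.zpowers T, ∃ i < 9, m = T ^ i := by
    intro m hm
    classical
    obtain ⟨i, hi, him⟩ := (mem_zpowers_iff_mem_range_orderOf (x := T) (y := m)).1 hm |> Finset.mem_image.1
    have hi' := Finset.mem_range.1 hi
    rw [← Nat.card_zpowers, hcard] at hi'
    exact ⟨i, hi', him.symm⟩
  have hmS : ∀ m ∈ Subgroup.zpowers T, ∀ w ∈ S, m w ∈ S := by
    intro m hm x hx
    obtain ⟨i, -, rfl⟩ := hnat m hm
    exact hpowS i x hx
  let _ : MulAction (Subgroup.zpowers T) S :=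
    { smul := fun m w => ⟨m.1 w.1, hmS m.1 m.2 w.1 w.2⟩
      one_smul := fun w => rfl
      mul_smul := fun m m' w => rfl }
  rw [← Nat.card_coe_set_eq]
  refine card_dvd_of_free ?_
  · rintro ⟨w, hw⟩
    rw [eq_bot_iff]
    rintro ⟨m, hm⟩ hmw
    obtain ⟨i, hi, rfl⟩ := hnat m hm
    have hmw' : (T ^ i) w = w := congrArg Subtype.val hmw
    have key : ∀ j : ℕ, (T ^ (i * j)) w = w := by
      intro j
      induction j with
      | zero => rfl
      | succ j ih =>
        rw [mul_add, mul_one, pow_add]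
        change (T ^ (i * j)) ((T ^ i) w) = w
        rw [hmw', ih]
    have hred : ∀ j k : ℕ, i * j = 9 * k + 3 → False := by
      intro j k hjk
      apply hfree w hw
      have h1 := key j
      rw [hjk, pow_add, pow_mul, hT, one_pow, one_mul] at h1
      exact h1
    rw [Subgroup.mem_bot]
    apply Subtype.ext
    change T ^ i = 1
    interval_cases i
    · rfl
    · exact (hred 3 0 (by norm_num)).elim
    · exact (hred 6 1 (by norm_num)).elim
    · exact (hred 1 0 (by norm_num)).elim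
    · exact (hred 3 1 (by norm_num)).elim
    · exact (hred 6 3 (by norm_num)).elim
    · exact (hred 2 1 (by norm_num)).elim
    · exact (hred 3 2 (by norm_num)).elim
    · exact (hred 6 5 (by norm_num)).elim

end Count

section Props

variable {F : Type} [Field F] [Fintype F] {Q : QuadraticForm F (Fin 8 → F)}

theorem finV : finrank F (Fin 8 → F) = 8 := by rw [Module.finrank_fintype_fun_eq_card, Fintype.card_fin]

theorem lin_pow {g : GL (Fin 8) F} {n : ℕ} (h : g ^ n = 1) : lin g ^ n = 1 := by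
  rw [← H251.GeoCard.toLin_pow, h]; exact lin_one

theorem lin_pow' (g : GL (Fin 8) F) (n : ℕ) : lin (g ^ n) = lin g ^ n := by
  rw [lin, ← H251.GeoCard.toLin_pow]

theorem iso_of_mem {g : GL (Fin 8) F} (hg : g ∈ Cfsg.isometryGroup F (⇑Q)) (v : Fin 8 → F) : Q (lin g v) = Q v :=
  lin_iso le_rfl hg v

theorem iso_of {e r : ℕ} (hr : PP (Nat.card F) e r) (he : 2 ≤ e) {g : GL (Fin 8) F}
    (hg : g ∈ Cfsg.isometryGroup F (⇑Q)) (ho : orderOf g = r) : Iso Q (lin g) r ∧ lin g ≠ 1 := by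
  refine ⟨Iso.mk' hr he (lin_pow (by rw [← ho, pow_orderOf_eq_one])) (iso_of_mem hg), lin_ne_one ?_⟩
  rintro rfl
  rw [orderOf_one] at ho
  exact hr.prime.one_lt.ne ho

/-- `a` is irreducible. -/
theorem a_irr (hQ : Nondeg Q) {r : ℕ} (hr : PP (Nat.card F) 8 r) {a : GL (Fin 8) F}
    (ha : a ∈ Cfsg.isometryGroup F (⇑Q)) (hao : orderOf a = r) :
    ∀ W : Submodule F (Fin 8 → F), Inv (lin a) W → W = ⊥ ∨ W = ⊤ := by
  intro W hW
  obtain ⟨hiso, ha1⟩ := iso_of hr (by norm_num) ha hao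
  obtain ⟨hcm, -⟩ := hiso.even_case hQ ha1 hr (by decide) (by rw [finV]; norm_num)
  have hcmt : cm (lin a) = ⊤ := Submodule.eq_top_of_finrank_eq (by rw [hcm, finV])
  rcases hiso.le_or hr hcm hW with h | h
  · left
    rw [eq_bot_iff]
    refine h.trans ?_
    have := (H951.isCompl_fx_cm hiso.ne0 hiso.pow).inf_eq_bot
    rw [hcmt, inf_top_eq] at this
    rw [this]
  · right
    rw [hcmt] at h
    exact top_le_iff.1 h

theorem ord_two_three' : orderOf ((2 : ℕ) : ZMod 3) = 2 := by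
  have : Fact (Nat.Prime 2) := ⟨Nat.prime_two⟩
  exact orderOf_eq_prime (by decide) (by decide)

/-- properties of `b`: minus on `U` (dimension six, irreducible), trivial on the plus plane `X`. -/
structure BP (Q : QuadraticForm F (Fin 8 → F)) (b : GL (Fin 8) F) (X U : Submodule F (Fin 8 → F)) : Prop where
  iso : ∀ v, Q (lin b v) = Q v
  odd : Odd (orderOf b)
  pow : b ^ (Nat.card F ^ 3 + 1) = 1
  dich : ∀ W : Submodule F (Fin 8 → F), Inv (lin b) W → W ≤ X ∨ U ≤ W
  inv : Inv (lin b) U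
  jinv : ∀ J : Module.End F (Fin 8 → F), (∀ v, J (lin b v) = lin b (J v)) → Inv J U
  dimU : finrank F U = 6
  dimX : finrank F X = 2
  ndU : Nondeg (res Q U)
  ndX : Nondeg (res Q X)
  plus : IsPlus (res Q X)
  inf : X ⊓ U = ⊥

theorem BP.mk' (hQ : Nondeg Q) (hP : ¬ IsPlus Q) {b : GL (Fin 8) F} (hb : b ∈ Cfsg.isometryGroup F (⇑Q))
    (hodd : Odd (orderOf b)) (hpow : b ^ (Nat.card F ^ 3 + 1) = 1) {j ℓ : ℕ} (hiso : Iso Q (lin b ^ j) ℓ)
    (h6 : finrank F (cm (lin b ^ j)) = 6) (hm : ¬ IsPlus (res Q (cm (lin b ^ j))))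
    (hd : ∀ W : Submodule F (Fin 8 → F), Inv (lin b) W → W ≤ fx (lin b ^ j) ∨ cm (lin b ^ j) ≤ W) :
    BP Q b (fx (lin b ^ j)) (cm (lin b ^ j)) := by
  have hadd := hiso.finrank_add
  rw [finV] at hadd
  have hcomm : ∀ J : Module.End F (Fin 8 → F), (∀ v, J (lin b v) = lin b (J v)) → Inv J (cm (lin b ^ j)) := by
    intro J hJ w hw
    have h1 : Commute J (lin b) := LinearMap.ext hJ
    have h2 : ∀ v, J ((lin b ^ j) v) = (lin b ^ j) (J v) := fun v =>
      congrArg (fun f : Module.End F (Fin 8 → F) => f v) (h1.pow_right j).eq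
    obtain ⟨y, rfl⟩ := H951.mem_cm.1 hw
    exact H951.mem_cm.2 ⟨J y, by rw [← h2, ← map_sub]⟩
  refine ⟨iso_of_mem hb, hodd, hpow, hd, ?_, hcomm, h6, by omega, nondeg_cm hQ hiso.iso hiso.ne0 hiso.pow,
    nondeg_fx hQ hiso.iso hiso.ne0 hiso.pow, ?_, (H951.isCompl_fx_cm hiso.ne0 hiso.pow).inf_eq_bot⟩
  · exact hcomm (lin b) fun v => rfl
  · by_contra h
    exact hP ((hiso.isPlus_fx hQ (by rw [finV]; decide) (by rw [h6]; decide)).2 (iff_of_false hm h))

/-- `b` of prime order. -/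
theorem bp_prime (hQ : Nondeg Q) (hP : ¬ IsPlus Q) {r : ℕ} (hr : PP (Nat.card F) 6 r) {b : GL (Fin 8) F}
    (hb : b ∈ Cfsg.isometryGroup F (⇑Q)) (hbo : orderOf b = r) : ∃ X U, BP Q b X U := by
  obtain ⟨hiso, hb1⟩ := iso_of hr (by norm_num) hb hbo
  obtain ⟨hcm, hcP⟩ := hiso.even_case hQ hb1 hr (by decide) (by rw [finV]; norm_num)
  have hq := one_lt_q F
  have hodd : Odd (orderOf b) := by rw [hbo]; exact hr.odd (by norm_num)
  have hpow : b ^ (Nat.card F ^ 3 + 1) = 1 := by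
    rw [← orderOf_dvd_iff_pow_eq_one, hbo]
    have h8 : 1 ≤ Nat.card F ^ 3 := Nat.one_le_pow _ _ (by omega)
    have h9 : r ∣ Nat.card F ^ 6 - 1 := (hr.dvd_iff (by omega) 6).2 dvd_rfl
    have h7 : Nat.card F ^ 6 - 1 = (Nat.card F ^ 3 + 1) * (Nat.card F ^ 3 - 1) := by
      obtain ⟨c, hc⟩ := Nat.exists_eq_add_of_le h8
      have h9 : Nat.card F ^ 6 = Nat.card F ^ 3 * Nat.card F ^ 3 := by ring
      rw [h9, hc, Nat.add_sub_cancel_left]
      have : (1 + c) * (1 + c) = 1 + (1 + c + 1) * c := by ring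
      rw [this, Nat.add_sub_cancel_left]
    rw [h7] at h9
    rcases (hr.prime.dvd_mul).1 h9 with h | h
    · exact h
    · exfalso
      have := (hr.dvd_iff (by omega) 3).1 h
      omega
  have h1 : lin b ^ 1 = lin b := pow_one _
  exact ⟨_, _, BP.mk' hQ hP hb hodd hpow (j := 1) (ℓ := r) (by rw [h1]; exact hiso) (by rw [h1]; exact hcm)
    (by rw [h1]; exact hcP) (by rw [h1]; exact fun W hW => hiso.le_or hr hcm hW)⟩

/-- `b` of order nine over the field of two elements. -/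
theorem bp_nine (hQ : Nondeg Q) (hP : ¬ IsPlus Q) (hF : Nat.card F = 2) {b : GL (Fin 8) F}
    (hb : b ∈ Cfsg.isometryGroup F (⇑Q)) (hbo : orderOf b = 9) : ∃ X U, BP Q b X U := by
  have hr : PP (Nat.card F) 2 3 := by
    rw [hF]; exact ⟨Nat.prime_three, ord_two_three'⟩
  have h9 : b ^ 9 = 1 := by rw [← hbo, pow_orderOf_eq_one]
  have hb3 : orderOf (b ^ 3) = 3 := by rw [orderOf_pow' b (by norm_num), hbo]; rfl
  have hb3m : b ^ 3 ∈ Cfsg.isometryGroup F (⇑Q) := (Cfsg.isometryGroup F (⇑Q)).pow_mem hb 3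
  obtain ⟨hiso, hb1⟩ := iso_of hr le_rfl hb3m hb3
  rw [lin_pow'] at hiso hb1
  have hfinV : Finite (Fin 8 → F) := inferInstance
  set T := LieClassical.OrthFinite.glEquiv (Fin 8) F b with hTdef
  have hT : ∀ v, T v = lin b v := fun v => by
    rw [hTdef, LieClassical.OrthFinite.glEquiv_apply, lin, Matrix.toLin'_apply]
  have hTn : ∀ (n : ℕ) v, (T ^ n) v = (lin b ^ n) v := by
    intro n
    induction n with
    | zero => intro v; rfl
    | succ n ih =>
      intro v
      rw [pow_succ, pow_succ, Module.End.mul_apply, ← ih, ← hT]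
      rfl
  have hT9 : T ^ 9 = 1 := by rw [hTdef, ← map_pow, h9, map_one]
  -- invariant subspaces without vectors fixed by the cube
  have hsix : ∀ W : Submodule F (Fin 8 → F), Inv (lin b) W → W ⊓ fx (lin b ^ 3) = ⊥ → W ≠ ⊥ → 6 ≤ finrank F W ∧ 6 ∣ finrank F W := by
    intro W hW hWf hW0
    obtain ⟨w, hw, hw0⟩ := (Submodule.ne_bot_iff W).1 hW0
    have h10 := nine_dvd hT9 (S := (W : Set (Fin 8 → F)) \ {0}) (by
      rintro v ⟨hv, hv0⟩
      refine ⟨?_, ?_⟩
      · rw [hT]; exact hW v hv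
      · intro h
        apply hv0
        have h' : T v = 0 := h
        exact (LinearEquiv.map_eq_zero_iff T).1 h') (by
      rintro v ⟨hv, hv0⟩ h
      apply hv0
      rw [hTn] at h
      have h2 : v ∈ W ⊓ fx (lin b ^ 3) := ⟨hv, H951.mem_fx.2 h⟩
      rw [hWf] at h2
      exact h2) ⟨w, hw, hw0⟩
    have h11 : ((W : Set (Fin 8 → F)) \ {0}).ncard = 2 ^ finrank F W - 1 := by
      rw [Set.ncard_sdiff_singleton_of_mem W.zero_mem]
      congr 1
      rw [← Nat.card_coe_set_eq]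
      have h12 := Module.natCard_eq_pow_finrank (K := F) (V := W)
      rw [hF] at h12
      exact h12
    rw [h11] at h10
    have h13 : finrank F W ≤ 8 := by
      have := Submodule.finrank_le W
      rwa [finV] at this
    have h14 : finrank F W ≠ 0 := fun h => hW0 (Submodule.finrank_eq_zero.1 h)
    generalize finrank F W = d at *
    interval_cases d <;> simp_all
  have hinvC : Inv (lin b) (cm (lin b ^ 3)) := by
    intro w hw
    obtain ⟨y, rfl⟩ := H951.mem_cm.1 hw
    refine H951.mem_cm.2 ⟨lin b y, ?_⟩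
    rw [map_sub, ← Module.End.mul_apply, ← Module.End.mul_apply, pow_mul_comm']
  have hcompl := H951.isCompl_fx_cm hiso.ne0 hiso.pow
  have hC0 : cm (lin b ^ 3) ≠ ⊥ := cm_ne_bot hb1
  obtain ⟨h6a, h6b⟩ := hsix _ hinvC (by rw [inf_comm]; exact hcompl.inf_eq_bot) hC0
  have hCle : finrank F (cm (lin b ^ 3)) ≤ 8 := by
    have := Submodule.finrank_le (cm (lin b ^ 3))
    rwa [finV] at this
  have hC6 : finrank F (cm (lin b ^ 3)) = 6 := by
    obtain ⟨c, hc⟩ := h6b
    omega
  have h3F : Fact (Nat.Prime 3) := ⟨Nat.prime_three⟩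
  refine ⟨_, _, BP.mk' hQ hP hb (by rw [hbo]; decide) ?_ (j := 3) (ℓ := 3) hiso hC6 ?_ ?_⟩
  · rw [hF]; exact h9
  · rw [isPlus_cm_iff hiso.two_lt hQ hiso.iso hiso.ne0 hiso.pow (ord_eq hr) (by decide) (A := 3) (by rw [hC6])]
    decide
  · intro W hW
    by_cases h0 : W ⊓ cm (lin b ^ 3) = ⊥
    · left
      have h5 := H951.inf_fx_sup_inf_cm hiso.ne0 hiso.pow (hW.pow 3)
      rw [h0, sup_bot_eq] at h5
      rw [← h5]
      exact inf_le_right
    · right
      obtain ⟨h1, -⟩ := hsix (W ⊓ cm (lin b ^ 3)) (hW.inf hinvC) (by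
        rw [inf_assoc, inf_comm (cm (lin b ^ 3)), hcompl.inf_eq_bot, inf_bot_eq]) h0
      have h2 : W ⊓ cm (lin b ^ 3) = cm (lin b ^ 3) :=
        Submodule.eq_of_le_of_finrank_le inf_le_right (by rw [hC6]; exact h1)
      rw [← h2]
      exact inf_le_left

/-- the unipotent element (odd characteristic). -/
structure UP (Q : QuadraticForm F (Fin 8 → F)) (u : GL (Fin 8) F) : Prop where
  mem : u ∈ Cfsg.isometryGroup F (⇑Q)
  odd : ∃ M, Odd M ∧ u ^ M = 1
  rank : finrank F (LinearMap.range ((lin u - 1) ^ 4)) = 1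
  sing : ∀ v, lin u v = v → Q v = 0

/-- the semisimple element without fixed vectors (characteristic two). -/
structure GP (Q : QuadraticForm F (Fin 8 → F)) (s r3 : ℕ) (g : GL (Fin 8) F) : Prop where
  mem : g ∈ Cfsg.isometryGroup F (⇑Q)
  ord : orderOf (g ^ s) = r3
  free : ∀ v, lin g v = v → v = 0

end Props

end Cfsg.Agent.H975.Cov
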