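import Cfsg.Agent.H975.Cov.Uni
import Cfsg.Agent.H975.Cov.Props
import Cfsg.Agent.H403.EltConstr

/-!
# Existence of the test elements (TEAM COV, helper975)
-/

set_option autoImplicit false
set_option linter.unusedSectionVars false

namespace Cfsg.Agent.H975.Cov

open Module QuadraticMap Cfsg Cfsg.Geo Cfsg.Agent.LieClassical.OrthCore Cfsg.Agent.H955 Cfsg.Agent.H954.TSing
open Cfsg.Agent.H884.El
open Cfsg.Agent.H951 (fx cm Inv)
open Cfsg.Agent.LieClassical.QuadForms (minusForm coe_minusForm)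
open scoped MatrixGroups Matrix

variable {F : Type} [Field F] [Fintype F] {Q : QuadraticForm F (Fin 8 → F)}

/-- elements of prime order, even case. -/
theorem exists_even (hQ : Nondeg Q) {e r : ℕ} (hr : PP (Nat.card F) e r) (he : Even e) (he2 : 2 ≤ e)
    (h : e < 8 ∨ (e = 8 ∧ ¬ IsPlus Q)) : ∃ g ∈ Cfsg.isometryGroup F (⇑Q), orderOf g = r := by
  obtain ⟨g, hg, hgr, hg1, -⟩ := exists_g (A := 1) hQ hr he he2 le_rfl (Or.inl ⟨by rw [Fintype.card_fin]; decide, by
    rw [Fintype.card_fin, mul_one]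
    rcases h with h | ⟨h, hP⟩
    · exact Or.inl h
    · exact Or.inr ⟨h, iff_of_false hP (by decide)⟩⟩)
  have := Fact.mk hr.prime
  exact ⟨g, hg, orderOf_eq_prime hgr hg1⟩

/-- elements of prime order, odd case. -/
theorem exists_odd (hQ : Nondeg Q) {r : ℕ} (hr : PP (Nat.card F) 3 r) :
    ∃ g ∈ Cfsg.isometryGroup F (⇑Q), orderOf g = r := by
  obtain ⟨g, hg, hgr, hg1, -⟩ := exists_g_odd (A := 1) hQ hr (by decide) (by norm_num) le_rfl
    (Or.inl ⟨by rw [Fintype.card_fin]; decide, by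
      rw [Fintype.card_fin]
      left; norm_num⟩)
  have := Fact.mk hr.prime
  exact ⟨g, hg, orderOf_eq_prime hgr hg1⟩

/-- the unipotent element. -/
theorem exists_up (hQ : Nondeg Q) (hP : ¬ IsPlus Q) (h2 : (2 : F) ≠ 0) : ∃ u, UP Q u := by
  obtain ⟨a, b, hab⟩ := exists_aniso_coeff F
  obtain ⟨e, he⟩ := exists_minus_equiv hab 3 Q hQ (by rw [finV]) hP
  obtain ⟨p, hch⟩ := CharP.exists F
  obtain ⟨n, hpp, hn⟩ := FiniteField.card F p
  have hp3 : 3 ≤ p := by
    have h3 := hpp.two_le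
    by_contra hlt
    have h4 : p = 2 := by omega
    subst h4
    exact h2 (by exact_mod_cast CharP.cast_eq_zero F 2)
  obtain ⟨h, hh⟩ : ∃ h : F, a = 2 * h := ⟨a / 2, by field_simp⟩
  obtain ⟨β, hβ⟩ : ∃ β : F, β = b - h ^ 2 := ⟨_, rfl⟩
  have hβ0 : β ≠ 0 := by
    intro h0
    have h3 := (hab (-h) 1 (by rw [hh]; rw [hβ] at h0; linear_combination h0)).2
    exact one_ne_zero h3
  set W := (Fin 3 ⊕ Fin 3) ⊕ Fin 2 → F with hW
  have hU := uLin_pow (F := F) hpp hp3 h β
  have hm : 1 ≤ p ^ 3 := Nat.one_le_pow _ _ (by omega)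
  obtain ⟨m, hm'⟩ := Nat.exists_eq_add_of_le' hm
  rw [hm'] at hU
  let Ue : W ≃ₗ[F] W := LinearEquiv.ofLinearMap (uLin h β) (uLin h β ^ m)
    (by
      have h5 : uLin h β * uLin h β ^ m = 1 := by rw [← pow_succ', hU]
      exact h5)
    (by
      have h5 : uLin h β ^ m * uLin h β = 1 := by rw [← pow_succ, hU]
      exact h5)
  let T : (Fin 8 → F) ≃ₗ[F] (Fin 8 → F) := e.trans (Ue.trans e.symm)
  have hT : ∀ v, T v = e.symm (uLin h β (e v)) := fun v => rfl
  have hTn : ∀ (k : ℕ) v, (T ^ k) v = e.symm ((uLin h β ^ k) (e v)) := by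
    intro k
    induction k with
    | zero => intro v; exact (e.symm_apply_apply v).symm
    | succ k ih =>
      intro v
      rw [pow_succ, LinearEquiv.mul_apply, ih, hT, LinearEquiv.apply_symm_apply, pow_succ, Module.End.mul_apply]
  have hTO : T ∈ O Q := by
    intro v
    rw [← he, hT, LinearEquiv.apply_symm_apply, uLin_isom hh hβ, he]
  have hTr : T ^ (p ^ 3) = 1 := by
    ext1 v
    rw [hTn, hm', hU, Module.End.one_apply, LinearEquiv.symm_apply_apply]
    rfl
  have hrank := nLin_range (h := h) (β := β) h2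
  have hT1 : T ≠ 1 := by
    intro h1
    have h3 : uLin h β - 1 = 0 := by
      refine LinearMap.ext fun x => ?_
      have h4 := hT (e.symm x)
      rw [h1, LinearEquiv.apply_symm_apply] at h4
      have h5 := congrArg e h4
      rw [LinearEquiv.apply_symm_apply] at h5
      have h6 : x = uLin h β x := by
        rw [← h5]
        exact (e.apply_symm_apply x).symm
      rw [LinearMap.sub_apply, ← h6, Module.End.one_apply, sub_self, LinearMap.zero_apply]
    rw [h3, zero_pow (by norm_num), LinearMap.range_zero, finrank_bot] at hrank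
    exact zero_ne_one hrank
  obtain ⟨g, hg, hgr, hg1, hlin⟩ := exists_matrix hTO hTr hT1
  have hlin' : ∀ v, lin g v = e.symm (uLin h β (e v)) := fun v => by
    rw [hlin]; exact hT v
  have hpow : ∀ (k : ℕ) v, ((lin g - 1) ^ k) v = e.symm (((uLin h β - 1) ^ k) (e v)) := by
    intro k
    induction k with
    | zero => intro v; exact (e.symm_apply_apply v).symm
    | succ k ih =>
      intro v
      rw [pow_succ, Module.End.mul_apply, ih, pow_succ, Module.End.mul_apply, LinearMap.sub_apply, hlin',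
        Module.End.one_apply, map_sub, LinearEquiv.apply_symm_apply, LinearMap.sub_apply, Module.End.one_apply]
  refine ⟨g, hg, ⟨p ^ 3, ?_, hgr⟩, ?_, ?_⟩
  · exact (hpp.odd_of_ne_two (by omega)).pow
  · have h3 : LinearMap.range ((lin g - 1) ^ 4) =
        (LinearMap.range ((uLin h β - 1) ^ 4)).map (e.symm : _ →ₗ[F] (Fin 8 → F)) := by
      ext v
      constructor
      · rintro ⟨w, rfl⟩
        exact ⟨_, ⟨e w, rfl⟩, (hpow 4 w).symm⟩
      · rintro ⟨_, ⟨w, rfl⟩, rfl⟩
        refine ⟨e.symm w, ?_⟩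
        rw [hpow, LinearEquiv.apply_symm_apply]
        rfl
    rw [h3, LinearEquiv.finrank_map_eq]
    exact hrank
  · intro v hv
    rw [hlin'] at hv
    have h3 := congrArg e hv
    rw [LinearEquiv.apply_symm_apply] at h3
    rw [← he]
    exact uLin_fix h2 hβ0 h3

/-- the semisimple element without fixed vectors. -/
theorem exists_gp (hQ : Nondeg Q) (hP : ¬ IsPlus Q) (hev : Even (Nat.card F)) {r3 : ℕ} (h3 : PP (Nat.card F) 3 r3) :
    ∃ s g, GP Q s r3 g ∧ Odd (orderOf g) := by
  have hq := one_lt_q F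
  obtain ⟨s, hs, hsq⟩ := Nat.exists_prime_and_dvd (n := Nat.card F + 1) (by omega)
  have hs2 : s ≠ 2 := by
    rintro rfl
    obtain ⟨k, hk⟩ := hev
    obtain ⟨l, hl⟩ := hsq
    omega
  have hsF := Fact.mk hs
  have h3F := Fact.mk h3.prime
  have hs3 : 2 < s := by have := hs.two_le; omega
  have hsn : ¬ s ∣ Nat.card F := by
    intro h
    have h1 := (Nat.dvd_add_right h).1 hsq
    exact hs.one_lt.ne' (Nat.dvd_one.1 h1)
  have hord : orderOf (Nat.card F : ZMod s) = 2 := by
    have h1 : (Nat.card F : ZMod s) = -1 := by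
      have h2 : ((Nat.card F + 1 : ℕ) : ZMod s) = 0 := (ZMod.natCast_eq_zero_iff _ _).2 hsq
      rw [Nat.cast_add, Nat.cast_one] at h2
      exact eq_neg_of_add_eq_zero_left h2
    rw [h1]
    have : Fact (Nat.Prime 2) := ⟨Nat.prime_two⟩
    refine orderOf_eq_prime (by ring) ?_
    intro h2
    exact one_ne_neg_one_zmod hs3 h2.symm
  have hsne : s ≠ r3 := by
    rintro rfl
    rw [h3.ord] at hord
    omega
  have h3lt := h3.lt (by norm_num)
  have h3n := h3.not_dvd (by norm_num)
  -- the plus space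
  obtain ⟨U, hU, hUd, hUP⟩ := exists_sub_type hQ (n := 6) (by decide) (by norm_num) True
    (Or.inl ⟨by rw [finV]; decide, Or.inl (by rw [finV]; norm_num)⟩)
  have hperp := finrank_add_perp hQ U
  rw [finV, hUd] at hperp
  have hpd : finrank F (perp Q U) = 2 := by omega
  have hpn := nondeg_perp hQ hU
  have hpP : ¬ IsPlus (res Q (perp Q U)) := by
    intro h
    exact hP ((isPlus_iff_perp hQ hU (by rw [finV]; decide) (by rw [hUd]; decide)).2 (iff_of_true (hUP.2 trivial) h))
  have hcc3 : cc (Nat.card F) r3 = 6 := by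
    rw [cc, h3.ord, if_neg (by decide)]
  have hccs : cc (Nat.card F) s = 2 := by
    rw [cc, hord, if_pos (by decide)]
  obtain ⟨T1, hT1, hT1r, hT1f⟩ := exists_free (r := r3) (by omega) h3n 1 hU (by rw [hUd, hcc3]) (by
    rw [hUP, h3.ord]
    exact iff_of_true trivial (Or.inl (by decide)))
  obtain ⟨T2, hT2, hT2r, hT2f⟩ := exists_free (r := s) (by omega) hsn 1 hpn (by rw [hpd, hccs]) (by
    rw [hord]
    exact iff_of_false hpP (by decide))
  set T := glue hU (T1, T2) with hTdef
  have hTO : T ∈ O Q := (glue_mem_O hU).2 ⟨hT1, hT2⟩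
  have hTr : T ^ (s * r3) = 1 := by
    rw [hTdef, ← map_pow]
    have : ((T1, T2) : (U ≃ₗ[F] U) × (perp Q U ≃ₗ[F] perp Q U)) ^ (s * r3) = 1 := by
      rw [Prod.pow_mk, mul_comm, pow_mul, hT1r, one_pow, mul_comm, pow_mul, hT2r, one_pow]
      rfl
    rw [this, map_one]
  -- `T1 ^ s ≠ 1`
  have hT1s : T1 ^ s ≠ 1 := by
    intro h
    have h4 : orderOf T1 ∣ s := orderOf_dvd_of_pow_eq_one h
    have h5 : orderOf T1 ∣ r3 := orderOf_dvd_of_pow_eq_one hT1r
    have h6 : T1 = 1 := orderOf_eq_one_iff.1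
      (Nat.eq_one_of_dvd_coprimes ((Nat.coprime_primes hs h3.prime).2 hsne) h4 h5)
    have h7 : U = ⊥ := by
      rw [Submodule.eq_bot_iff]
      intro v hv
      have := hT1f ⟨v, hv⟩ (by rw [h6]; rfl)
      exact congrArg Subtype.val this
    rw [h7, finrank_bot] at hUd
    omega
  have hTs : T ^ s ≠ 1 := by
    intro h
    apply hT1s
    rw [hTdef, ← map_pow] at h
    have h4 := glue_injective hU (h.trans (map_one (glue hU)).symm)
    rw [Prod.pow_mk] at h4
    exact congrArg Prod.fst h4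
  have hT1' : T ≠ 1 := by
    intro h
    apply hTs
    rw [h, one_pow]
  obtain ⟨g, hg, hgr, hg1, hlin⟩ := exists_matrix hTO hTr hT1'
  have hodd : Odd (s * r3) := (hs.odd_of_ne_two hs2).mul (h3.odd (by norm_num))
  refine ⟨s, g, ⟨hg, ?_, ?_⟩, Odd.of_dvd_nat hodd (orderOf_dvd_of_pow_eq_one hgr)⟩
  · apply orderOf_eq_prime
    · rw [← pow_mul, hgr]
    · intro h
      apply hTs
      have h4 : lin g ^ s = 1 := lin_pow h
      rw [hlin] at h4
      have h5 : ∀ (k : ℕ) v, (T ^ k) v = ((T : Module.End F (Fin 8 → F)) ^ k) v := by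
        intro k
        induction k with
        | zero => intro v; rfl
        | succ k ih => intro v; rw [pow_succ, pow_succ, Module.End.mul_apply, ← ih]; rfl
      ext1 v
      rw [h5, h4]
      rfl
  · intro v hv
    rw [hlin] at hv
    obtain ⟨x, y, rfl⟩ := exists_add_perp hU v
    obtain ⟨h5, h6⟩ := (glue_fix hU).1 hv
    rw [hT1f x h5, hT2f y h6]
    simp

/-- the element of order nine over the field with two elements. -/
theorem exists_nine (hQ : Nondeg Q) (hF : Nat.card F = 2) :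
    ∃ g ∈ Cfsg.isometryGroup F (⇑Q), orderOf g = 9 := by
  have h2F : (2 : F) = 0 := by
    have h5 : ((Fintype.card F : ℕ) : F) = 0 := FiniteField.cast_card_eq_zero F
    rw [← Nat.card_eq_fintype_card, hF] at h5
    exact_mod_cast h5
  have hch : CharP F 2 := CharTwo.of_one_ne_zero_of_two_eq_zero one_ne_zero h2F
  obtain ⟨U, hU, hUd, hUP⟩ := exists_sub_type hQ (n := 6) (by decide) (by norm_num) False
    (Or.inl ⟨by rw [finV]; decide, Or.inl (by rw [finV]; norm_num)⟩)
  obtain ⟨-, d, Q', g', hQ', hs, hg', ho⟩ := H403.elt_tor_minus (F := F) (k := 3) (N := 9) (by norm_num)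
    (by rw [hF]; norm_num)
  obtain ⟨m, hm, a, b, hab, e', he'⟩ := H403.isMinus_of_hasSign hQ' hs
  obtain rfl : m = 2 := by omega
  obtain ⟨e, he⟩ := exists_minus_equiv hab 2 (res Q U) hU (by rw [hUd]) (fun h => hUP.1 h)
  have hg9 : g' ^ 9 = 1 := by rw [← ho, pow_orderOf_eq_one]
  have hg3 : g' ^ 3 ≠ 1 := by
    intro h
    have := Nat.le_of_dvd (by norm_num) (orderOf_dvd_of_pow_eq_one h)
    omega
  let ge : (Fin d → F) ≃ₗ[F] (Fin d → F) := LinearEquiv.ofLinearMap g' (g' ^ 8)
    (by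
      have h5 : g' * g' ^ 8 = 1 := by rw [← pow_succ', hg9]
      exact h5)
    (by
      have h5 : g' ^ 8 * g' = 1 := by rw [← pow_succ, hg9]
      exact h5)
  let ε : U ≃ₗ[F] (Fin d → F) := e.trans e'
  have hε : ∀ v, Q' (ε v) = res Q U v := by
    intro v
    change Q' (e' (e v)) = _
    rw [he', ← he]
    rfl
  let T0 : U ≃ₗ[F] U := ε.trans (ge.trans ε.symm)
  have hT : ∀ v, T0 v = ε.symm (g' (ε v)) := fun v => rfl
  have hTn : ∀ (k : ℕ) v, (T0 ^ k) v = ε.symm ((g' ^ k) (ε v)) := by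
    intro k
    induction k with
    | zero => intro v; exact (ε.symm_apply_apply v).symm
    | succ k ih =>
      intro v
      rw [pow_succ, LinearEquiv.mul_apply, ih, hT, LinearEquiv.apply_symm_apply, pow_succ, Module.End.mul_apply]
  have hTO : T0 ∈ O (res Q U) := by
    intro v
    rw [← hε, hT, LinearEquiv.apply_symm_apply, hg', hε]
  have hT9 : T0 ^ 9 = 1 := by
    ext1 v
    rw [hTn, hg9, Module.End.one_apply, LinearEquiv.symm_apply_apply]
    rfl
  have hT3 : T0 ^ 3 ≠ 1 := by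
    intro h
    apply hg3
    refine LinearMap.ext fun x => ?_
    have h4 := hTn 3 (ε.symm x)
    rw [h, LinearEquiv.apply_symm_apply] at h4
    have h5 := congrArg ε h4
    rw [LinearEquiv.apply_symm_apply] at h5
    rw [← h5]
    exact ε.apply_symm_apply x
  have hX3 : ext1 hU T0 ^ 3 ≠ 1 := by
    intro h
    apply hT3
    rw [ext1, ← map_pow] at h
    have h4 := glue_injective hU (h.trans (map_one (glue hU)).symm)
    rw [Prod.pow_mk] at h4
    exact congrArg Prod.fst h4
  have hX1 : ext1 hU T0 ≠ 1 := by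
    intro h
    apply hX3
    rw [h, one_pow]
  obtain ⟨g, hg, hgr, hg1, hlin⟩ := exists_matrix (ext1_mem_O hU hTO) (ext1_pow hU hT9) hX1
  refine ⟨g, hg, ?_⟩
  have h9 : orderOf g ∣ 3 ^ 2 := orderOf_dvd_of_pow_eq_one hgr
  have h3 : ¬ orderOf g ∣ 3 := by
    intro h
    apply hX3
    have h4 : lin g ^ 3 = 1 := lin_pow (orderOf_dvd_iff_pow_eq_one.1 h)
    rw [hlin] at h4
    have h5 : ∀ (k : ℕ) v, (ext1 hU T0 ^ k) v = ((ext1 hU T0 : Module.End F (Fin 8 → F)) ^ k) v := by
      intro k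
      induction k with
      | zero => intro v; rfl
      | succ k ih => intro v; rw [pow_succ, pow_succ, Module.End.mul_apply, ← ih]; rfl
    ext1 v
    rw [h5, h4]
    rfl
  obtain ⟨k, hk, hk2⟩ := (Nat.dvd_prime_pow Nat.prime_three).1 h9
  interval_cases k
  · exact absurd (by rw [hk2]; norm_num) h3
  · exact absurd (by rw [hk2]; norm_num) h3
  · rw [hk2]; norm_num

end Cfsg.Agent.H975.Cov
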