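import Cfsg.Agent.H975.Cov.Kill
import Cfsg.Agent.H975.Cov.Elt
import Cfsg.Agent.H278.Cov.Defs
import Cfsg.Agent.H884.ElFin

/-!
# `PΩ⁻₈(q)` is not the union of the conjugates of two proper subgroups (TEAM COV, helper975)
-/

set_option autoImplicit false
set_option linter.unusedSectionVars false

namespace Cfsg.Agent.H975.Cov

open Module QuadraticMap Cfsg Cfsg.Geo Cfsg.Agent.LieClassical.OrthCore Cfsg.Agent.H955 Cfsg.Agent.H954.TSing
open Cfsg.Agent.H884.El
open Cfsg.Agent.H951 (fx cm Inv)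
open Cfsg.Agent.H278.Cov (Av NoTwo not_av noTwo_of_two)
open Cfsg.Agent.LieClassical.OmegaReindex
open scoped MatrixGroups Matrix

section Conj

theorem orderOf_conj' {G : Type*} [Group G] (g x : G) : orderOf (g * x * g⁻¹) = orderOf x := by
  have h := orderOf_injective (MulAut.conj g).toMonoidHom (MulAut.conj g).injective x
  exact h

variable {F : Type} [Field F] [Fintype F] {Q : QuadraticForm F (Fin 8 → F)}

theorem lin_conj (g u : GL (Fin 8) F) (v : Fin 8 → F) :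
    lin (g * u * g⁻¹) v = lin g (lin u (lin g⁻¹ v)) := by
  simp only [lin, Matrix.toLin'_apply, Matrix.mulVec_mulVec, Units.val_mul, Matrix.mul_assoc]

theorem lin_inv_left (g : GL (Fin 8) F) (v : Fin 8 → F) : lin g⁻¹ (lin g v) = v := by
  simp only [lin, Matrix.toLin'_apply, Matrix.mulVec_mulVec]
  rw [← Units.val_mul, inv_mul_cancel, Units.val_one, Matrix.one_mulVec]

theorem lin_inv_right (g : GL (Fin 8) F) (v : Fin 8 → F) : lin g (lin g⁻¹ v) = v := by
  simp only [lin, Matrix.toLin'_apply, Matrix.mulVec_mulVec]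
  rw [← Units.val_mul, mul_inv_cancel, Units.val_one, Matrix.one_mulVec]

theorem fix_conj {g u : GL (Fin 8) F} {v : Fin 8 → F} (h : lin (g * u * g⁻¹) v = v) :
    lin u (lin g⁻¹ v) = lin g⁻¹ v := by
  rw [lin_conj] at h
  have h1 := congrArg (lin g⁻¹) h
  rwa [lin_inv_left] at h1

theorem UP.conj {u : GL (Fin 8) F} (h : UP Q u) {g : GL (Fin 8) F} (hg : g ∈ Cfsg.isometryGroup F (⇑Q)) :
    UP Q (g * u * g⁻¹) := by
  obtain ⟨M, hM, huM⟩ := h.odd
  refine ⟨mul_mem (mul_mem hg h.mem) (inv_mem hg), ⟨M, hM, by rw [conj_pow, huM, mul_one, mul_inv_cancel]⟩, ?_, ?_⟩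
  · have hpow : ∀ (k : ℕ) v, ((lin (g * u * g⁻¹) - 1) ^ k) v = lin g (((lin u - 1) ^ k) (lin g⁻¹ v)) := by
      intro k
      induction k with
      | zero => intro v; exact (lin_inv_right g v).symm
      | succ k ih =>
        intro v
        rw [pow_succ, Module.End.mul_apply, ih, pow_succ, Module.End.mul_apply, LinearMap.sub_apply, lin_conj,
          Module.End.one_apply, map_sub, lin_inv_left, LinearMap.sub_apply, Module.End.one_apply]
    have h3 : LinearMap.range ((lin (g * u * g⁻¹) - 1) ^ 4) =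
        (LinearMap.range ((lin u - 1) ^ 4)).map
          (LieClassical.OrthFinite.glEquiv (Fin 8) F g : (Fin 8 → F) →ₗ[F] (Fin 8 → F)) := by
      ext v
      constructor
      · rintro ⟨w, rfl⟩
        refine ⟨_, ⟨lin g⁻¹ w, rfl⟩, ?_⟩
        rw [hpow]
        rfl
      · rintro ⟨_, ⟨w, rfl⟩, rfl⟩
        refine ⟨lin g w, ?_⟩
        rw [hpow, lin_inv_left]
        rfl
    rw [h3, LinearEquiv.finrank_map_eq]
    exact h.rank
  · intro v hv
    have h1 := h.sing _ (fix_conj hv)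
    rw [iso_of_mem (inv_mem hg)] at h1
    exact h1

theorem GP.conj {s r3 : ℕ} {u : GL (Fin 8) F} (h : GP Q s r3 u) {g : GL (Fin 8) F}
    (hg : g ∈ Cfsg.isometryGroup F (⇑Q)) : GP Q s r3 (g * u * g⁻¹) := by
  refine ⟨mul_mem (mul_mem hg h.mem) (inv_mem hg), by rw [conj_pow, orderOf_conj', h.ord], fun v hv => ?_⟩
  have h1 := h.free _ (fix_conj hv)
  have h2 := lin_inv_right g v
  rw [h1, map_zero] at h2
  exact h2.symm

/-- the image in `GL` of a subgroup of `omegaGL`. -/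
def im (M : Subgroup (omegaGL (⇑Q))) : Subgroup (GL (Fin 8) F) := M.map (omegaGL (⇑Q)).subtype

theorem mem_im {M : Subgroup (omegaGL (⇑Q))} {x : omegaGL (⇑Q)} (hx : x ∈ M) : (x : GL (Fin 8) F) ∈ im M :=
  ⟨x, hx, rfl⟩

theorem isMaximalIn_im {M : Subgroup (omegaGL (⇑Q))} (hM : IsCoatom M) : IsMaximalIn (omegaGL (⇑Q)) (im M) := by
  have hinj := Subgroup.map_injective (omegaGL (⇑Q)).subtype_injective
  have htop : (⊤ : Subgroup (omegaGL (⇑Q))).map (omegaGL (⇑Q)).subtype = omegaGL (⇑Q) := by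
    rw [← MonoidHom.range_eq_map, Subgroup.range_subtype]
  refine ⟨lt_of_le_of_ne (Subgroup.map_subtype_le _) fun h => ?_, fun L hL hLK => ?_⟩
  · apply hM.1
    apply hinj
    rw [htop]
    exact h
  · have h1 : (L.subgroupOf (omegaGL (⇑Q))).map (omegaGL (⇑Q)).subtype = L := by
      rw [Subgroup.subgroupOf_map_subtype, inf_eq_left.2 hLK]
    have h2 : M ≤ L.subgroupOf (omegaGL (⇑Q)) := by
      intro x hx
      exact hL (mem_im hx)
    rcases hM.le_iff.1 h2 with h | h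
    · right
      rw [← h1, h, htop]
    · left
      rw [← h1, h]
      rfl

theorem noTwo_omegaGL (hQ : Nondeg Q) (hP : ¬ IsPlus Q) (hD : H390.Lift.Data Q) : NoTwo (omegaGL (⇑Q)) := by
  obtain ⟨p, f, r8, N, r3, n⟩ := exists_num F
  have hmem : ∀ {g : GL (Fin 8) F}, g ∈ Cfsg.isometryGroup F (⇑Q) → Odd (orderOf g) → g ∈ omegaGL (⇑Q) := by
    intro g hg hodd
    obtain ⟨x, hx⟩ := exists_omega hD hg hodd (pow_orderOf_eq_one g)
    exact ⟨x, x.2, hx⟩
  have hiso : ∀ g : omegaGL (⇑Q), (g : GL (Fin 8) F) ∈ Cfsg.isometryGroup F (⇑Q) := fun g => omegaGL_le' g.2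
  obtain ⟨a, ha, hao⟩ := exists_even hQ n.h8q (by decide) (by norm_num) (Or.inr ⟨rfl, hP⟩)
  obtain ⟨b, hb, hbo⟩ : ∃ b ∈ Cfsg.isometryGroup F (⇑Q), orderOf b = N := by
    rcases n.hN with ⟨h2, rfl⟩ | ⟨h2, hr⟩
    · exact exists_nine hQ h2
    · exact exists_even hQ (by rw [n.hpf]; exact hr.of_pow n.hf) (by decide) (by norm_num) (Or.inl (by norm_num))
  obtain ⟨c, hc, hco⟩ := exists_odd hQ n.h3
  have hBP : ∀ b' : GL (Fin 8) F, b' ∈ Cfsg.isometryGroup F (⇑Q) → orderOf b' = N → ∃ X U, BP Q b' X U := by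
    intro b' hb' hbo'
    rcases n.hN with ⟨h2, h9⟩ | ⟨h2, hr⟩
    · exact bp_nine hQ hP h2 hb' (by rw [hbo', h9])
    · exact bp_prime hQ hP (by rw [n.hpf]; exact hr.of_pow n.hf) hb' hbo'
  have haΩ := hmem ha (by rw [hao]; exact n.h8q.odd (by norm_num))
  have hbΩ := hmem hb (by rw [hbo]; exact n.odd)
  have hcΩ := hmem hc (by rw [hco]; exact n.h3.odd (by norm_num))
  refine noTwo_of_two (a := (⟨a, haΩ⟩ : omegaGL (⇑Q))) (b := ⟨b, hbΩ⟩) ?_ ?_
  · intro M hM
    by_contra hcon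
    push Not at hcon
    obtain ⟨g, hg⟩ := not_av hcon.1
    obtain ⟨k, hk⟩ := not_av hcon.2
    have hgH : ((g : GL (Fin 8) F) * a * (g : GL (Fin 8) F)⁻¹) ∈ im M := mem_im hg
    have hkH : ((k : GL (Fin 8) F) * b * (k : GL (Fin 8) F)⁻¹) ∈ im M := mem_im hk
    have hmax := isMaximalIn_im hM
    obtain ⟨X, U, hB⟩ := hBP _ (hmax.1.le.trans omegaGL_le' hkH) (by rw [orderOf_conj', hbo])
    exact ab_false n hQ hP hmax hgH (by rw [orderOf_conj', hao]) hkH hB
  · intro M L hM hL haM hbL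
    have hmaxM := isMaximalIn_im hM
    have hmaxL := isMaximalIn_im hL
    have hMI := hmaxM.1.le.trans (omegaGL_le' (Q := Q))
    have hLI := hmaxL.1.le.trans (omegaGL_le' (Q := Q))
    obtain ⟨K, hK, hMK⟩ := a_case n hQ hP hmaxM (mem_im haM) hao
    obtain ⟨X, U, hB⟩ := hBP b hb hbo
    -- `c`
    have hcAv : ∀ R : Subgroup (omegaGL (⇑Q)), im R ≤ Cfsg.isometryGroup F (⇑Q) → _ → Av (⟨c, hcΩ⟩ : omegaGL (⇑Q)) R :=
      fun R hR h g hg => c_kill (H := im R) n hQ hP hR (mem_im hg)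
        (by
          change orderOf ((g : GL (Fin 8) F) * c * (g : GL (Fin 8) F)⁻¹) = r3
          rw [orderOf_conj', hco]) h
    rcases b_case n hQ hP hmaxL (mem_im hbL) hbo hB with h | ⟨hq, h⟩ | h | ⟨hq, h⟩ | h | h
    · exact ⟨_, hcAv M hMI (Or.inr (Or.inr (Or.inl ⟨K, hK, hMK⟩))), hcAv L hLI (Or.inl h)⟩
    · have h2 : (2 : F) ≠ 0 := H390.two_ne_zero_of_odd (by rw [← Nat.card_eq_fintype_card]; exact hq)
      obtain ⟨u, hu⟩ := exists_up hQ hP h2
      have huΩ : u ∈ omegaGL (⇑Q) := by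
        obtain ⟨m, hm, hum⟩ := hu.odd
        exact hmem hu.mem (Odd.of_dvd_nat hm (orderOf_dvd_of_pow_eq_one hum))
      exact ⟨⟨u, huΩ⟩, fun g hg => u_kill (H := im M) hMI (mem_im hg) (hu.conj (hiso g)) (Or.inr ⟨K, hK, hMK⟩),
        fun g hg => u_kill (H := im L) hLI (mem_im hg) (hu.conj (hiso g)) (Or.inl h)⟩
    · exact ⟨_, hcAv M hMI (Or.inr (Or.inr (Or.inl ⟨K, hK, hMK⟩))), hcAv L hLI (Or.inr (Or.inl h))⟩
    · obtain ⟨s, g₀, hg₀, hgo⟩ := exists_gp hQ hP (Nat.not_odd_iff_even.1 hq) n.h3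
      have hgΩ := hmem hg₀.mem hgo
      exact ⟨⟨g₀, hgΩ⟩, fun g hg => g_kill (H := im M) hQ n hq hMI (mem_im hg) (hg₀.conj (hiso g))
          (Or.inr ⟨K, hK, hMK⟩),
        fun g hg => g_kill (H := im L) hQ n hq hLI (mem_im hg) (hg₀.conj (hiso g)) (Or.inl h)⟩
    · exact ⟨_, hcAv M hMI (Or.inr (Or.inr (Or.inl ⟨K, hK, hMK⟩))), hcAv L hLI (Or.inr (Or.inr (Or.inl h)))⟩
    · exact ⟨_, hcAv M hMI (Or.inr (Or.inr (Or.inl ⟨K, hK, hMK⟩))), hcAv L hLI (Or.inr (Or.inr (Or.inr h)))⟩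

end Conj

section Final

variable {F : Type} [Field F] [Fintype F]

/-- **COV-O8-**: `PΩ⁻₈(q)` is not the union of the conjugates of two proper subgroups. -/
theorem noTwo_ominus_four {a b : F}
    (hab : ∀ z₁ z₂ : F, z₁ ^ 2 + a * z₁ * z₂ + b * z₂ ^ 2 = 0 → z₁ = 0 ∧ z₂ = 0) :
    NoTwo (POmega F (quadFormMinus (4 - 1) F a b)) := by
  change NoTwo (POmega F (quadFormMinus 3 F a b))
  set Q0 := quadMinus 3 F a b with hQ0
  let e : (Fin 3 ⊕ Fin 3) ⊕ Fin 2 ≃ Fin 8 := Fintype.equivFinOfCardEq (by simp)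
  let Q := reindexForm e Q0
  have hnd : (polarBilin Q).Nondegenerate := reindexForm_nondegenerate e Q0 (quadMinus_nondegenerate hab)
  have hQ : Nondeg Q := nondeg_iff.2 hnd
  have hP : ¬ IsPlus Q := by
    rw [isPlus_iff_of_equiv (Q := Q) (Q' := Q0) (LinearEquiv.funCongrLeft F F e) (fun v => rfl)]
    exact not_isPlus_quadMinus hab
  have hD : H390.Lift.Data Q := by
    refine H390.data_of Q hnd (by rw [Fintype.card_fin]; norm_num) ?_ (Or.inr (by rw [Fintype.card_fin]; norm_num))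
    obtain ⟨u, hu0, hu⟩ := quadMinus_isotropic (F := F) (m := 3) (by norm_num) a b
    refine ⟨u ∘ e.symm, fun h => hu0 ?_, ?_⟩
    · funext i
      have := congrFun h (e i)
      simpa using this
    · change Q0 ((u ∘ e.symm) ∘ e) = 0
      rw [Function.comp_assoc, Equiv.symm_comp_self, Function.comp_id]
      exact hu
  let ε : Cfsg.isometryGroup F (⇑Q) ≃* Cfsg.isometryGroup F (⇑Q0) :=
    isometryGroupReindex e.symm (⇑Q) (⇑Q0) (fun v => by
      change Q0 v = Q0 ((v ∘ e.symm) ∘ e)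
      rw [Function.comp_assoc, Equiv.symm_comp_self, Function.comp_id])
  have hΩ : (Omega F (⇑Q)).map ε.toMonoidHom = Omega F (⇑Q0) := by
    unfold Omega
    rw [commutator_def, commutator_def, Subgroup.map_commutator, Subgroup.map_top_of_surjective _ ε.surjective]
  let ψ : omegaGL (⇑Q) ≃* Omega F (⇑Q0) :=
    ((Omega F (⇑Q)).equivMapOfInjective (Cfsg.isometryGroup F (⇑Q)).subtype
      (Cfsg.isometryGroup F (⇑Q)).subtype_injective).symm.trans
      ((ε.subgroupMap (Omega F (⇑Q))).trans (MulEquiv.subgroupCongr hΩ))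
  have h1 : NoTwo (POmega F (⇑Q0)) :=
    (noTwo_omegaGL hQ hP hD).of_surjective ((QuotientGroup.mk' (Subgroup.center (Omega F (⇑Q0)))).comp ψ.toMonoidHom)
      ((QuotientGroup.mk'_surjective _).comp ψ.surjective)
  rwa [hQ0, coe_quadMinus] at h1

end Final

end Cfsg.Agent.H975.Cov
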