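import Cfsg.Agent.H975.Cov.Props
import Cfsg.Agent.H975.Cov.Num
import Cfsg.Agent.S5826
import Cfsg.Agent.S5827

/-!
# Maximal subgroups of `Ω⁻₈(q)` over the test elements (TEAM COV, helper975)
-/

set_option autoImplicit false
set_option linter.unusedSectionVars false

namespace Cfsg.Agent.H975.Cov

open Module QuadraticMap Cfsg Cfsg.Geo Cfsg.Agent.LieClassical.OrthCore Cfsg.Agent.H955 Cfsg.Agent.H954.TSing
open Cfsg.Agent.H884.El
open Cfsg.Agent.H951 (fx cm Inv)
open scoped MatrixGroups Matrix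

section Basic

variable {F : Type} [Field F] {Q : QuadraticForm F (Fin 8 → F)} {H : Subgroup (GL (Fin 8) F)}

theorem plusTop : IsPlusTypeOn (⇑Q) ⊤ → IsPlus Q := by
  rintro ⟨U, -, hU0, hd⟩
  exact ⟨U, fun u hu => hU0 u hu, by rw [hd, finrank_top]⟩

theorem nondeg_on {W : Submodule F (Fin 8 → F)} (h : IsNondegenerateOn (polar (⇑Q)) W) : Nondeg (res Q W) := by
  intro w hw
  by_contra hne
  obtain ⟨y, hy, hy2⟩ := (h w w.2 (fun h0 => hne (Subtype.ext h0))).2
  apply hy2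
  have := hw ⟨y, hy⟩
  rwa [polar_res] at this

theorem plusOn {W : Submodule F (Fin 8 → F)} : IsPlusTypeOn (⇑Q) W ↔ IsPlus (res Q W) := by
  constructor
  · rintro ⟨U, hU, hU0, hd⟩
    refine ⟨U.comap W.subtype, fun u hu => hU0 _ hu, ?_⟩
    rw [← hd, LinearEquiv.finrank_eq (Submodule.comapSubtypeEquivOfLe hU)]
  · rintro ⟨U, hU, hd⟩
    refine ⟨U.map W.subtype, Submodule.map_subtype_le _ _, ?_, ?_⟩
    · rintro _ ⟨u, hu, rfl⟩
      exact hU u hu
    · rw [H955.finrank_map_of_injective _ (Submodule.subtype_injective _)]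
      exact hd

theorem omegaGL_le' : omegaGL (⇑Q) ≤ Cfsg.isometryGroup F (⇑Q) := by
  rintro _ ⟨x, -, rfl⟩
  exact x.2

/-- a nondegenerate line is spanned by a nonsingular vector. -/
theorem exists_line {W : Submodule F (Fin 8 → F)} (hW : finrank F W = 1) (hn : Nondeg (res Q W)) :
    ∃ v, Q v ≠ 0 ∧ W = Submodule.span F {v} := by
  obtain ⟨v, hv0, hspan⟩ := finrank_eq_one_iff'.1 hW
  refine ⟨v, fun h0 => ?_, ?_⟩
  · apply hv0
    apply hn
    intro w
    obtain ⟨c, rfl⟩ := hspan w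
    rw [polar_res]
    change polar Q (v : Fin 8 → F) (c • (v : Fin 8 → F)) = 0
    rw [polar_smul_right, polar_self, h0, smul_zero, smul_zero]
  · apply le_antisymm
    · intro w hw
      obtain ⟨c, hc⟩ := hspan ⟨w, hw⟩
      exact Submodule.mem_span_singleton.2 ⟨c, congrArg Subtype.val hc⟩
    · rw [Submodule.span_singleton_le_iff_mem]
      exact v.2

/-- stabilisers and perps. -/
theorem le_stab_perp (hH : H ≤ Cfsg.isometryGroup F (⇑Q)) {W : Submodule F (Fin 8 → F)}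
    (hW : H ≤ subspaceStabilizer W) : H ≤ subspaceStabilizer (perp Q W) := by
  intro y hy
  rw [H884.OmegaGL.mem_subspaceStabilizer]
  intro v hv w hw
  have h1 : ((y⁻¹ : GL (Fin 8) F) : Matrix (Fin 8) (Fin 8) F) *ᵥ w ∈ W :=
    H884.OmegaGL.mem_subspaceStabilizer.1 (hW (H.inv_mem hy)) w hw
  have h2 : lin y (((y⁻¹ : GL (Fin 8) F) : Matrix (Fin 8) (Fin 8) F) *ᵥ w) = w := by
    rw [lin, Matrix.toLin'_apply, Matrix.mulVec_mulVec, ← Units.val_mul, mul_inv_cancel, Units.val_one,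
      Matrix.one_mulVec]
  have h3 : (LieClassical.OrthFinite.glEquiv (Fin 8) F y) v = lin y v := by
    rw [LieClassical.OrthFinite.glEquiv_apply, lin, Matrix.toLin'_apply]
  have h4 := hv _ h1
  rw [h3, ← h2, polar_isom' (fun v => lin_iso hH hy v)]
  exact h4

/-- the eigenvalue of an isometry on a nonsingular line. -/
theorem exists_eig (hH : H ≤ Cfsg.isometryGroup F (⇑Q)) {v : Fin 8 → F} (hv : Q v ≠ 0)
    (hW : H ≤ subspaceStabilizer (Submodule.span F {v})) {y : GL (Fin 8) F} (hy : y ∈ H) :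
    ∃ c : F, c * c = 1 ∧ lin y v = c • v := by
  have h1 := inv_of_mem (hW hy) v (Submodule.mem_span_singleton_self v)
  obtain ⟨c, hc⟩ := Submodule.mem_span_singleton.1 h1
  refine ⟨c, ?_, hc.symm⟩
  have h2 := lin_iso hH hy v
  rw [← hc, QuadraticMap.map_smul, smul_eq_mul] at h2
  have h3 : (c * c - 1) * Q v = 0 := by linear_combination h2
  rcases mul_eq_zero.1 h3 with h4 | h4
  · exact sub_eq_zero.1 h4
  · exact absurd h4 hv

end Basic

section Cases

variable {F : Type} [Field F] [Fintype F] {Q : QuadraticForm F (Fin 8 → F)} {H : Subgroup (GL (Fin 8) F)}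
  {p f r8 N r3 : ℕ}

/-- the arithmetic data. -/
structure Num (F : Type) [Field F] [Fintype F] (p f r8 N r3 : ℕ) : Prop where
  hp : p.Prime
  hf : 1 ≤ f
  hpf : Nat.card F = p ^ f
  h8 : PP p (f * 8) r8
  h3 : PP (Nat.card F) 3 r3
  h3f : ¬ r3 ∣ f
  hN : (Nat.card F = 2 ∧ N = 9) ∨ (Nat.card F ≠ 2 ∧ PP p (f * 6) N)

theorem Num.h8q (n : Num F p f r8 N r3) : PP (Nat.card F) 8 r8 := by
  rw [n.hpf]; exact n.h8.of_pow n.hf

theorem exists_num (F : Type) [Field F] [Fintype F] : ∃ p f r8 N r3, Num F p f r8 N r3 := by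
  obtain ⟨p, f, hp, hf, hpf⟩ := exists_char F
  obtain ⟨r8, h8⟩ := exists_ppp (e := 8) hp hf (by norm_num) (by omega) (fun b hb => by omega)
  obtain ⟨r3, h3, h3f⟩ := exists_r3 hp hf hpf
  by_cases h2 : Nat.card F = 2
  · exact ⟨p, f, r8, 9, r3, hp, hf, hpf, h8, h3, h3f, Or.inl ⟨h2, rfl⟩⟩
  · obtain ⟨r6, h6⟩ := exists_ppp (e := 6) hp hf (by norm_num) (by rw [← hpf]; tauto) (fun b hb => by omega)
    exact ⟨p, f, r8, r6, r3, hp, hf, hpf, h8, h3, h3f, Or.inr ⟨h2, h6⟩⟩

theorem Num.odd (n : Num F p f r8 N r3) : Odd N := by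
  rcases n.hN with ⟨-, h⟩ | ⟨-, h⟩
  · rw [h]; decide
  · exact h.odd (by have := n.hf; omega)

theorem Num.f_one (n : Num F p f r8 N r3) (h2 : Nat.card F = 2) : f = 1 := by
  have h1 := n.hpf
  rw [h2] at h1
  have hp := n.hp.two_le
  have hf := n.hf
  by_contra hne
  have h3 : p ^ 2 ≤ p ^ f := Nat.pow_le_pow_right (by omega) (by omega)
  have h4 : 2 ^ 2 ≤ p ^ 2 := Nat.pow_le_pow_left hp 2
  omega

/-- **overgroups of `a`** are of field type. -/
theorem a_case (n : Num F p f r8 N r3) (hQ : Nondeg Q) (hP : ¬ IsPlus Q) (hH : IsMaximalIn (omegaGL (⇑Q)) H)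
    {a : GL (Fin 8) F} (ha : a ∈ H) (hao : orderOf a = r8) :
    ∃ K : Subalgebra F (Matrix (Fin 8) (Fin 8) F), IsFieldSubalgebra 2 K ∧ H ≤ subalgebraNormalizer K := by
  have hHI : H ≤ Cfsg.isometryGroup F (⇑Q) := hH.1.le.trans omegaGL_le'
  have hirr := a_irr hQ n.h8q (hHI ha) hao
  have hdvd : r8 ∣ Nat.card H := by rw [← hao]; exact Subgroup.orderOf_dvd_natCard H ha
  have hlt := n.h8q.lt (by norm_num)
  have hodd : Odd (orderOf a) := by rw [hao]; exact n.h8q.odd (by norm_num)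
  have h8f : ¬ r8 ∣ f := pp_dvd_of_pow n.h8 n.hf (by norm_num)
  have hq := one_lt_q F
  have key : ∀ W : Submodule F (Fin 8 → F), H ≤ subspaceStabilizer W → finrank F W ≠ 0 → finrank F W ≠ 8 → False := by
    intro W hW h0 h8
    rcases hirr W (inv_of_mem (hW ha)) with h | h
    · rw [h, finrank_bot] at h0; exact h0 rfl
    · rw [h, finrank_top, finV] at h8; exact h8 rfl
  rcases S5826.result (⇑Q) (H884.OddForm.isNondegenerate_of_nondeg Q hQ) (fun h => hP (plusTop h)) H hH with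
    ⟨W, hW0, hWs, hW⟩ | ⟨-, W, hW0, hWt, -, -, hW⟩ | ⟨W, hd, -, -, hW⟩ | ⟨-, W, hd, -, -, hW⟩ | ⟨W, hd, -, hW⟩ |
    ⟨-, v, hv, hW⟩ | ⟨K, hK, hHK⟩ | ⟨F₀, s, P, ζ, hs, hso, hcard, -, -, hHF⟩ | hS
  · exfalso
    rcases hirr W (inv_of_mem ((hW.le.trans inf_le_left) ha)) with h | h
    · exact hW0 h
    · obtain ⟨v, hv⟩ := exists_ne_zero hQ
      exact hv (hWs v (by rw [h]; trivial))
  · exfalso
    rcases hirr W (inv_of_mem ((hW.le.trans inf_le_left) ha)) with h | h
    · exact hW0 h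
    · exact hWt h
  · exact (key W (hW.le.trans inf_le_left) (by omega) (by omega)).elim
  · exact (key W (hW.le.trans inf_le_left) (by omega) (by omega)).elim
  · exact (key W (hW.le.trans inf_le_left) (by omega) (by omega)).elim
  · exfalso
    have hv0 : v ≠ 0 := by
      rintro rfl
      exact hv (QuadraticMap.map_zero Q)
    have h1 := finrank_span_singleton (K := F) hv0
    exact key _ (hW.le.trans inf_le_left) (by omega) (by omega)
  · exact ⟨K, hK, hHK.le.trans inf_le_left⟩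
  · exfalso
    exact kill_subfield (hHF.le.trans inf_le_left) hs (by rw [Nat.card_eq_fintype_card]; exact hcard) n.hp n.hpf n.h8
      (by rw [Fintype.card_fin]; norm_num) (by norm_num) hdvd
  · exfalso
    obtain ⟨P, hP', h | ⟨⟨K, iK, fK, hK, ⟨e⟩⟩, hq3⟩⟩ :=
      S5827.result (⇑Q) (H884.OddForm.isNondegenerate_of_nondeg Q hQ) (fun h => hP (plusTop h)) H hH hS
    · obtain ⟨⟨e⟩, -⟩ := h
      have h1 := kill_psl hQ hP' hHI e n.hp n.hpf ha hodd
      rw [hao] at h1
      exact psl_num (by omega) n.h8q (by norm_num) h8f h1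
    · have h1 := kill_psu hQ hP' hHI hK e (by intro h; rw [h] at hq3; omega) n.hp n.hf n.hpf ha hodd
      rw [hao] at h1
      exact psu_num (by omega) n.h8q (by norm_num) (Or.inl (by norm_num)) h8f h1

/-- **overgroups of `b`**. -/
theorem b_case (n : Num F p f r8 N r3) (hQ : Nondeg Q) (hP : ¬ IsPlus Q) (hH : IsMaximalIn (omegaGL (⇑Q)) H)
    {b : GL (Fin 8) F} (hb : b ∈ H) (hbo : orderOf b = N) {X U : Submodule F (Fin 8 → F)} (hB : BP Q b X U) :
    (∃ W : Submodule F (Fin 8 → F), W ≠ ⊥ ∧ TS Q W ∧ finrank F W ≤ 2 ∧ H ≤ subspaceStabilizer W) ∨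
    (Odd (Nat.card F) ∧ ∃ v, Q v ≠ 0 ∧ H ≤ subspaceStabilizer (Submodule.span F {v})) ∨
    (∃ W : Submodule F (Fin 8 → F), finrank F W = 2 ∧ IsPlus (res Q W) ∧ H ≤ subspaceStabilizer W) ∨
    (¬ Odd (Nat.card F) ∧ ∃ v, Q v ≠ 0 ∧ H ≤ subspaceStabilizer (Submodule.span F {v})) ∨
    (∃ K : Subalgebra F (Matrix (Fin 8) (Fin 8) F), IsFieldSubalgebra 2 K ∧ H ≤ subalgebraNormalizer K) ∨
    (∃ (P : Subgroup (GL (Fin 8) F)) (K : Type) (_ : Field K) (_ : Fintype K), IsResidualCore H P ∧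
      Fintype.card K = Fintype.card F ^ 2 ∧ Nonempty ((P ⧸ (scalars (Fin 8) F).subgroupOf P) ≃* PSU 3 K (Fintype.card F)) ∧
      Fintype.card F % 3 = 1) := by
  have hHI : H ≤ Cfsg.isometryGroup F (⇑Q) := hH.1.le.trans omegaGL_le'
  have hdvd : N ∣ Nat.card H := by rw [← hbo]; exact Subgroup.orderOf_dvd_natCard H hb
  have hq := one_lt_q F
  have hU0 : U ≠ ⊥ := by
    intro h
    have := hB.dimU
    rw [h, finrank_bot] at this
    omega
  have hdX := hB.dimX
  have hdU := hB.dimU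
  rcases S5826.result (⇑Q) (H884.OddForm.isNondegenerate_of_nondeg Q hQ) (fun h => hP (plusTop h)) H hH with
    ⟨W, hW0, hWs, hW⟩ | ⟨hqo, W, hW0, hWt, hWd, hWn, hW⟩ | ⟨W, hd, -, hWP, hW⟩ | ⟨-, W, hd, -, hWP, hW⟩ | ⟨W, hd, -, hW⟩ |
    ⟨hqe, v, hv, hW⟩ | ⟨K, hK, hHK⟩ | ⟨F₀, s, P, ζ, hs, hso, hcard, -, -, hHF⟩ | hS
  · left
    have hHW := hW.le.trans inf_le_left
    refine ⟨W, hW0, hWs, ?_, hHW⟩
    rcases hB.dich W (inv_of_mem (hHW hb)) with h | h
    · have := Submodule.finrank_mono h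
      omega
    · exact absurd hB.ndU (ts_not_nondeg hWs h hU0)
  · right; left
    have hHW := hW.le.trans inf_le_left
    refine ⟨by rw [Nat.card_eq_fintype_card]; exact hqo, ?_⟩
    have hWn' := nondeg_on hWn
    rcases hB.dich W (inv_of_mem (hHW hb)) with h | h
    · have h1 := Submodule.finrank_mono h
      have h2 : finrank F W = 1 := by
        obtain ⟨k, hk⟩ := hWd
        omega
      obtain ⟨v, hv, hvW⟩ := exists_line h2 hWn'
      exact ⟨v, hv, by rw [← hvW]; exact hHW⟩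
    · have h1 := Submodule.finrank_mono h
      have h2 := finrank_add_perp hQ W
      rw [finV] at h2
      have h3 : finrank F (perp Q W) = 1 := by
        obtain ⟨k, hk⟩ := hWd
        omega
      obtain ⟨v, hv, hvW⟩ := exists_line h3 (nondeg_perp hQ hWn')
      exact ⟨v, hv, by rw [← hvW]; exact le_stab_perp hHI hHW⟩
  · exfalso
    have hHW := hW.le.trans inf_le_left
    rcases hB.dich W (inv_of_mem (hHW hb)) with h | h
    · have h1 : W = X := Submodule.eq_of_le_of_finrank_eq h (by omega)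
      apply hWP
      rw [plusOn, h1]
      exact hB.plus
    · have := Submodule.finrank_mono h
      omega
  · right; right; left
    exact ⟨W, hd, plusOn.1 hWP, hW.le.trans inf_le_left⟩
  · exfalso
    have hHW := hW.le.trans inf_le_left
    rcases hB.dich W (inv_of_mem (hHW hb)) with h | h
    · have := Submodule.finrank_mono h
      omega
    · have := Submodule.finrank_mono h
      omega
  · right; right; right; left
    exact ⟨by rw [Nat.card_eq_fintype_card]; exact hqe, v, hv, hW.le.trans inf_le_left⟩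
  · right; right; right; right; left
    exact ⟨K, hK, hHK.le.trans inf_le_left⟩
  · exfalso
    rcases n.hN with ⟨h2, -⟩ | ⟨h2, hr⟩
    · have h3 : 1 < Nat.card F₀ := Finite.one_lt_card
      have hs3 : 2 ≤ s := hs.two_le
      have h4 : Nat.card F₀ ^ 2 ≤ Nat.card F₀ ^ s := Nat.pow_le_pow_right (by omega) hs3
      have h5 : 2 ^ 2 ≤ Nat.card F₀ ^ 2 := Nat.pow_le_pow_left h3 2
      rw [← hcard, ← Nat.card_eq_fintype_card, h2] at h4
      omega
    · exact kill_subfield (hHF.le.trans inf_le_left) hs (by rw [Nat.card_eq_fintype_card]; exact hcard) n.hp n.hpf hr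
        (by rw [Fintype.card_fin]; norm_num) (by norm_num) hdvd
  · obtain ⟨P, hP', h | ⟨⟨K, iK, fK, hK, he⟩, hq3⟩⟩ :=
      S5827.result (⇑Q) (H884.OddForm.isNondegenerate_of_nondeg Q hQ) (fun h => hP (plusTop h)) H hH hS
    · exfalso
      obtain ⟨⟨e⟩, -⟩ := h
      have h1 := kill_psl hQ hP' hHI e n.hp n.hpf hb hB.odd
      rw [hbo] at h1
      rcases n.hN with ⟨h2, h9⟩ | ⟨h2, hr⟩
      · rw [n.f_one h2, h2, h9] at h1
        revert h1
        decide
      · exact psl_num (by omega) (by rw [n.hpf]; exact hr.of_pow n.hf) (by norm_num)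
          (pp_dvd_of_pow hr n.hf (by norm_num)) h1
    · right; right; right; right; right
      exact ⟨P, K, iK, fK, hP', hK, he, hq3⟩

/-- what `c` avoids. -/
theorem c_kill (n : Num F p f r8 N r3) (hQ : Nondeg Q) (hP : ¬ IsPlus Q) (hHI : H ≤ Cfsg.isometryGroup F (⇑Q))
    {c : GL (Fin 8) F} (hc : c ∈ H) (hco : orderOf c = r3)
    (h : (∃ W : Submodule F (Fin 8 → F), W ≠ ⊥ ∧ TS Q W ∧ finrank F W ≤ 2 ∧ H ≤ subspaceStabilizer W) ∨
      (∃ W : Submodule F (Fin 8 → F), finrank F W = 2 ∧ IsPlus (res Q W) ∧ H ≤ subspaceStabilizer W) ∨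
      (∃ K : Subalgebra F (Matrix (Fin 8) (Fin 8) F), IsFieldSubalgebra 2 K ∧ H ≤ subalgebraNormalizer K) ∨
      (∃ (P : Subgroup (GL (Fin 8) F)) (K : Type) (_ : Field K) (_ : Fintype K), IsResidualCore H P ∧
        Fintype.card K = Fintype.card F ^ 2 ∧ Nonempty ((P ⧸ (scalars (Fin 8) F).subgroupOf P) ≃* PSU 3 K (Fintype.card F)) ∧
        Fintype.card F % 3 = 1)) : False := by
  obtain ⟨hiso, hc1⟩ := iso_of n.h3 (by norm_num) (hHI hc) hco
  have hdvd : r3 ∣ Nat.card H := by rw [← hco]; exact Subgroup.orderOf_dvd_natCard H hc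
  have hq := one_lt_q F
  obtain ⟨hcm, hcP, -⟩ := hiso.odd_case hQ hc1 n.h3 (by decide) (by rw [finV]; norm_num)
  have hadd := hiso.finrank_add
  rw [finV] at hadd
  have hfx : finrank F ↥(fx (lin c)) = 2 := by omega
  have hfP : ¬ IsPlus (res Q (fx (lin c))) := by
    intro h
    exact hP ((hiso.isPlus_fx hQ (by rw [finV]; decide) (by rw [hcm]; decide)).2 (iff_of_true hcP h))
  rcases h with ⟨W, hW0, hWs, hWd, hW⟩ | ⟨W, hWd, hWP, hW⟩ | ⟨K, hK, hHK⟩ | ⟨P, K, iK, fK, hP', hK, ⟨e⟩, hq3⟩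
  · have h1 := hiso.le_fx n.h3 (inv_of_mem (hW hc)) (by omega)
    apply hW0
    rw [Submodule.eq_bot_iff]
    intro w hw
    exact aniso_of_not_plus hfx hfP (h1 hw) (hWs w hw)
  · have h1 := hiso.le_fx n.h3 (inv_of_mem (hW hc)) (by omega)
    have h2 : W = fx (lin c) := Submodule.eq_of_le_of_finrank_eq h1 (by omega)
    rw [h2] at hWP
    exact hfP hWP
  · exact no_quadratic_field hQ hHI n.h3 (by decide) le_rfl (by rw [Fintype.card_fin]; norm_num) hdvd hK hHK
  · have h1 := kill_psu hQ hP' hHI hK e (by intro h; rw [h] at hq3; omega) n.hp n.hf n.hpf hc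
      (by rw [hco]; exact n.h3.odd (by norm_num))
    rw [hco] at h1
    exact psu_num (by omega) n.h3 (by norm_num) (Or.inr rfl) n.h3f h1

theorem u_kill (hHI : H ≤ Cfsg.isometryGroup F (⇑Q)) {u : GL (Fin 8) F} (hu : u ∈ H) (hU : UP Q u)
    (h : (∃ v, Q v ≠ 0 ∧ H ≤ subspaceStabilizer (Submodule.span F {v})) ∨
      (∃ K : Subalgebra F (Matrix (Fin 8) (Fin 8) F), IsFieldSubalgebra 2 K ∧ H ≤ subalgebraNormalizer K)) : False := by
  obtain ⟨M, hM, huM⟩ := hU.odd
  rcases h with ⟨v, hv, hW⟩ | ⟨K, hK, hHK⟩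
  · obtain ⟨c, hc, hcv⟩ := exists_eig hHI hv hW hu
    have h2 : lin u (lin u v) = v := by rw [hcv, map_smul, hcv, smul_smul, hc, one_smul]
    apply hv
    apply hU.sing
    obtain ⟨k, rfl⟩ := hM
    have h3 : ∀ j : ℕ, (lin u ^ (2 * j)) v = v := by
      intro j
      induction j with
      | zero => rfl
      | succ j ih =>
        rw [mul_add, mul_one, pow_add, Module.End.mul_apply, pow_two, Module.End.mul_apply, h2, ih]
    have h4 : lin u ^ (2 * k + 1) = 1 := lin_pow huM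
    have h5 : (lin u ^ (2 * k + 1)) (lin u v) = lin u v := by rw [h4]; rfl
    have h6 : (lin u ^ (2 * k + 1)) (lin u v) = (lin u ^ (2 * (k + 1))) v := by
      rw [← Module.End.mul_apply, ← pow_succ]; rfl
    rw [h6, h3] at h5
    exact h5.symm
  · exact no_field_of_odd hK (hHK hu) hM huM 4 (by rw [hU.rank]; decide)

theorem g_kill {s : ℕ} (hQ : Nondeg Q) (n : Num F p f r8 N r3) (he : ¬ Odd (Nat.card F))
    (hHI : H ≤ Cfsg.isometryGroup F (⇑Q)) {g : GL (Fin 8) F} (hg : g ∈ H) (hG : GP Q s r3 g)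
    (h : (∃ v, Q v ≠ 0 ∧ H ≤ subspaceStabilizer (Submodule.span F {v})) ∨
      (∃ K : Subalgebra F (Matrix (Fin 8) (Fin 8) F), IsFieldSubalgebra 2 K ∧ H ≤ subalgebraNormalizer K)) : False := by
  rcases h with ⟨v, hv, hW⟩ | ⟨K, hK, hHK⟩
  · obtain ⟨c, hc, hcv⟩ := exists_eig hHI hv hW hg
    have h2 : (2 : F) = 0 := by
      obtain ⟨q', hch⟩ := CharP.exists F
      have h3 : (Fintype.card F : F) = 0 := FiniteField.cast_card_eq_zero F
      obtain ⟨k, hk⟩ := Nat.not_odd_iff_even.1 he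
      rw [← Nat.card_eq_fintype_card, hk, Nat.cast_add, ← two_mul] at h3
      rcases mul_eq_zero.1 h3 with h | h
      · exact h
      · -- `p ∣ k`
        have h4 : (Nat.card F : ℕ) = p ^ f := n.hpf
        have h5 : Even (p ^ f) := by rw [← h4]; exact ⟨k, hk⟩
        have h6 : 2 ∣ p := Nat.prime_two.dvd_of_dvd_pow h5.two_dvd
        have h7 : 2 = p := (Nat.prime_dvd_prime_iff_eq Nat.prime_two n.hp).1 h6
        have h8 : ((Nat.card F : ℕ) : F) = 0 := by rw [Nat.card_eq_fintype_card]; exact FiniteField.cast_card_eq_zero F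
        rw [h4, ← h7, Nat.cast_pow] at h8
        exact_mod_cast pow_eq_zero_iff (by have := n.hf; omega) |>.1 h8
    have hc1 : c = 1 := by
      have h3 : (c - 1) * (c - 1) = 0 := by linear_combination hc - c * h2 + h2
      rcases mul_eq_zero.1 h3 with h | h <;> exact sub_eq_zero.1 h
    rw [hc1, one_smul] at hcv
    apply hv
    rw [hG.free v hcv, QuadraticMap.map_zero]
  · refine no_quadratic_field hQ hHI n.h3 (by decide) le_rfl (by rw [Fintype.card_fin]; norm_num) ?_ hK hHK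
    rw [← hG.ord]
    exact Subgroup.orderOf_dvd_natCard H (H.pow_mem hg s)

/-- **incompatibility of `a` and `b`**. -/
theorem ab_false (n : Num F p f r8 N r3) (hQ : Nondeg Q) (hP : ¬ IsPlus Q) (hH : IsMaximalIn (omegaGL (⇑Q)) H)
    {a b : GL (Fin 8) F} (ha : a ∈ H) (hao : orderOf a = r8) (hb : b ∈ H) {X U : Submodule F (Fin 8 → F)}
    (hB : BP Q b X U) : False := by
  obtain ⟨K, hK, hHK⟩ := a_case n hQ hP hH ha hao
  have hHI : H ≤ Cfsg.isometryGroup F (⇑Q) := hH.1.le.trans omegaGL_le'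
  have hq := one_lt_q F
  have hodd : Odd r8 := n.h8q.odd (by norm_num)
  have hU0 : U ≠ ⊥ := by
    intro h
    have := hB.dimU
    rw [h, finrank_bot] at this
    omega
  have h8pow : a ^ (Nat.card F ^ 4 + 1) = 1 := by
    rw [← orderOf_dvd_iff_pow_eq_one, hao]
    have h8 : 1 ≤ Nat.card F ^ 4 := Nat.one_le_pow _ _ (by omega)
    have h9 : r8 ∣ Nat.card F ^ 8 - 1 := (n.h8q.dvd_iff (by omega) 8).2 dvd_rfl
    have h7 : Nat.card F ^ 8 - 1 = (Nat.card F ^ 4 + 1) * (Nat.card F ^ 4 - 1) := by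
      obtain ⟨c, hc⟩ := Nat.exists_eq_add_of_le h8
      have h9 : Nat.card F ^ 8 = Nat.card F ^ 4 * Nat.card F ^ 4 := by ring
      rw [h9, hc, Nat.add_sub_cancel_left]
      have : (1 + c) * (1 + c) = 1 + (1 + c + 1) * c := by ring
      rw [this, Nat.add_sub_cancel_left]
    rw [h7] at h9
    rcases (n.h8q.prime.dvd_mul).1 h9 with h | h
    · exact h
    · exfalso
      have := (n.h8q.dvd_iff (by omega) 4).1 h
      omega
  refine field_false hK (hHK ha) (hHK hb) (lin_iso hHI ha) (lin_iso hHI hb) (k := 4) (l := 3) (by decide) (by decide)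
    h8pow hB.pow hodd hB.odd (by rw [← hao, pow_orderOf_eq_one]) (pow_orderOf_eq_one b) (a_irr hQ n.h8q (hHI ha) hao)
    hB.ndU hU0 hB.inv ?_ hB.jinv
  intro W hW hWi
  rcases hB.dich W hWi with h | h
  · left
    rw [eq_bot_iff, ← hB.inf]
    exact le_inf h hW
  · exact Or.inr (le_antisymm hW h)

end Cases

end Cfsg.Agent.H975.Cov
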