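import Cfsg.Agent.H884.ElT

/-!
# Isometries commuting with a quadratic field (TEAM COV, helper975)
-/

set_option autoImplicit false
set_option linter.unusedSectionVars false

namespace Cfsg.Agent.H975.Cov

open Module QuadraticMap Cfsg Cfsg.Geo Cfsg.Agent.LieClassical.OrthCore Cfsg.Agent.H955 Cfsg.Agent.H954.TSing
open Cfsg.Agent.H884.El
open Cfsg.Agent.H951 (fx cm Inv)
open scoped MatrixGroups Matrix Polynomial

universe u v

section Adj

variable {F : Type u} [Field F] {V : Type v} [AddCommGroup V] [Module F V] {Q : QuadraticForm F V}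
  {x y J : Module.End F V}

theorem polar_aeval (hx : ∀ u v, polar Q (x u) v = polar Q u (y v)) (P : F[X]) :
    ∀ u v, polar Q (Polynomial.aeval x P u) v = polar Q u (Polynomial.aeval y P v) := by
  have hpow : ∀ (n : ℕ) (u v : V), polar Q ((x ^ n) u) v = polar Q u ((y ^ n) v) := by
    intro n
    induction n with
    | zero => intro u v; rfl
    | succ n ih =>
      intro u v
      rw [pow_succ, Module.End.mul_apply, ih, hx, ← Module.End.mul_apply, ← pow_succ']
  refine Polynomial.induction_on' (motive := fun P => ∀ u v, polar Q (Polynomial.aeval x P u) v =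
    polar Q u (Polynomial.aeval y P v)) P ?_ ?_
  · intro P P' h h' u v
    rw [map_add, map_add, LinearMap.add_apply, LinearMap.add_apply, polar_add_left, polar_add_right, h, h']
  · intro n c u v
    rw [Polynomial.aeval_monomial, Polynomial.aeval_monomial, Algebra.algebraMap_eq_smul_one,
      smul_mul_assoc, smul_mul_assoc, one_mul, one_mul, LinearMap.smul_apply,
      LinearMap.smul_apply, polar_smul_left, polar_smul_right, hpow]

theorem polar_isom' (h : ∀ v, Q (x v) = Q v) (u v : V) : polar Q (x u) (x v) = polar Q u v := by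
  simp only [polar, ← map_add, h]

variable [Fintype F]

theorem expand_pow (k : ℕ) (P : F[X]) : Polynomial.expand F (Nat.card F ^ k) P = P ^ (Nat.card F ^ k) := by
  induction k with
  | zero => simp
  | succ k ih =>
    rw [pow_succ', Polynomial.expand_mul, ih, map_pow, Nat.card_eq_fintype_card, FiniteField.expand_card, ← pow_mul]

/-- the adjoint of an endomorphism commuting with an irreducible isometry `x`, `x ^ (q ^ k + 1) = 1`. -/
theorem adj_main {U : Submodule F V} (hU : Inv x U) (hirr : ∀ W ≤ U, Inv x W → W = ⊥ ∨ W = U) (hJU : Inv J U)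
    (hJx : ∀ v, J (x v) = x (J v)) (hiso : ∀ v, Q (x v) = Q v) {k : ℕ} (hk : x ^ (Nat.card F ^ k + 1) = 1)
    {u v : V} (hu : u ∈ U) (hv : v ∈ U) : polar Q (J u) v = polar Q u ((J ^ (Nat.card F ^ k)) v) := by
  by_cases hu0 : u = 0
  · rw [hu0, map_zero, polar_zero_left, polar_zero_left]
  -- the cyclic subspace
  let ev : F[X] →ₗ[F] V := (LinearMap.applyₗ u).comp (Polynomial.aeval x).toLinearMap
  have hev : ∀ P : F[X], ev P = Polynomial.aeval x P u := fun P => rfl
  have hcomm : ∀ (P : F[X]) (w : V), J (Polynomial.aeval x P w) = Polynomial.aeval x P (J w) := by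
    intro P w
    have h1 : Commute J x := LinearMap.ext hJx
    have h2 : Commute J (Polynomial.aeval x P) := by
      refine Polynomial.induction_on' (motive := fun P => Commute J (Polynomial.aeval x P)) P ?_ ?_
      · intro P P' h h'
        rw [map_add]; exact h.add_right h'
      · intro n c
        rw [Polynomial.aeval_monomial]
        have h3 : Commute J (algebraMap F (Module.End F V) c) := (Algebra.commutes c J).symm
        exact h3.mul_right (h1.pow_right n)
    exact congrArg (fun f : Module.End F V => f w) h2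
  have hinvP : ∀ (P : F[X]) (w : V), w ∈ U → Polynomial.aeval x P w ∈ U := by
    intro P w hw
    refine Polynomial.induction_on' (motive := fun P => Polynomial.aeval x P w ∈ U) P ?_ ?_
    · intro P P' h h'
      rw [map_add]; exact U.add_mem h h'
    · intro n c
      rw [Polynomial.aeval_monomial, Algebra.algebraMap_eq_smul_one, smul_mul_assoc, one_mul]
      exact U.smul_mem _ (hU.pow n w hw)
  have hrange : LinearMap.range ev = U := by
    have hle : LinearMap.range ev ≤ U := by
      rintro _ ⟨P, rfl⟩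
      exact hinvP P u hu
    have hinv : Inv x (LinearMap.range ev) := by
      rintro _ ⟨P, rfl⟩
      refine ⟨Polynomial.X * P, ?_⟩
      rw [hev, hev, map_mul, Polynomial.aeval_X, Module.End.mul_apply]
    rcases hirr (LinearMap.range ev) hle hinv with h | h
    · exfalso
      apply hu0
      have h1 : ev 1 ∈ LinearMap.range ev := ⟨1, rfl⟩
      rw [h, Submodule.mem_bot, hev, map_one] at h1
      exact h1
    · exact h
  obtain ⟨R, hR⟩ : J u ∈ LinearMap.range ev := by rw [hrange]; exact hJU u hu
  rw [hev] at hR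
  have hJR : ∀ w ∈ U, J w = Polynomial.aeval x R w := by
    intro w hw
    rw [← hrange] at hw
    obtain ⟨P, rfl⟩ := hw
    rw [hev, hcomm, ← hR, ← Module.End.mul_apply, ← Module.End.mul_apply, ← map_mul, ← map_mul, mul_comm]
  have hpow : ∀ (n : ℕ) (w : V), w ∈ U → (J ^ n) w = ((Polynomial.aeval x R) ^ n) w ∧ (J ^ n) w ∈ U := by
    intro n
    induction n with
    | zero => intro w hw; exact ⟨rfl, hw⟩
    | succ n ih =>
      intro w hw
      obtain ⟨h1, h2⟩ := ih (J w) (hJU w hw)
      refine ⟨?_, ?_⟩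
      · rw [pow_succ, Module.End.mul_apply, h1, pow_succ, Module.End.mul_apply, hJR w hw]
      · rw [pow_succ, Module.End.mul_apply]
        exact h2
  have hadj : ∀ u v, polar Q (x u) v = polar Q u ((x ^ (Nat.card F ^ k)) v) := by
    have hpowiso : ∀ (n : ℕ) (v : V), Q ((x ^ n) v) = Q v := by
      intro n
      induction n with
      | zero => intro v; rfl
      | succ n ih => intro v; rw [pow_succ, Module.End.mul_apply, ih, hiso]
    intro u v
    rw [← polar_isom' (hpowiso (Nat.card F ^ k)) (x u) v, ← Module.End.mul_apply, ← pow_succ, hk]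
    rfl
  rw [hJR u hu, polar_aeval hadj, (hpow _ v hv).1, ← Polynomial.expand_aeval, expand_pow, map_pow]

end Adj

section Field

variable {ι : Type} [Fintype ι] [DecidableEq ι] {F : Type u} [Field F] [Fintype F] {Q : QuadraticForm F (ι → F)}

/-- elements of order prime to `s` commute with a normalised field of prime degree `s`. -/
theorem comm_field' [Nonempty ι] {s : ℕ} {K : Subalgebra F (Matrix ι ι F)} (hK : IsFieldSubalgebra s K)
    {g : GL ι F} (hgK : g ∈ subalgebraNormalizer K) {r : ℕ} (hrs : Nat.Coprime r s) (hgr : g ^ r = 1) :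
    ∀ x ∈ K, (g : Matrix ι ι F) * x = x * (g : Matrix ι ι F) := by
  have hN : H912.NormAlg (subalgebraNormalizer K) K := fun _ hh a ha => (hh a).mp ha
  let _ : Field K := (H912.isField_of_fieldSub hK).toField
  have hfd : Module.Finite F K := inferInstance
  have hKfin : Finite K := Module.finite_of_finite F
  have hgal : IsGalois F K := inferInstance
  let σ : K ≃ₐ[F] K := H912.conjSub hN ⟨g, hgK⟩
  have hσk : ∀ (k : ℕ) (x : K), (((σ ^ k) x : K) : Matrix ι ι F) =
      ((g ^ k : GL ι F) : Matrix ι ι F) * x * (((g ^ k)⁻¹ : GL ι F) : Matrix ι ι F) := by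
    intro k
    induction k with
    | zero => intro x; simp
    | succ k ih =>
      intro x
      rw [pow_succ, AlgEquiv.mul_apply, ih, H912.conjSub_coe, pow_succ, _root_.mul_inv_rev, Units.val_mul,
        Units.val_mul]
      simp only [Matrix.mul_assoc]
  have hσs : σ ^ r = 1 := by
    apply AlgEquiv.ext
    intro x
    apply Subtype.ext
    rw [hσk, hgr]
    simp
  have hσ1 : σ = 1 := by
    have h1 : orderOf σ ∣ r := orderOf_dvd_of_pow_eq_one hσs
    have h2 : orderOf σ ∣ s := by
      have h3 : Nat.card (K ≃ₐ[F] K) = s := by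
        rw [IsGalois.card_aut_eq_finrank, hK.finrank_eq]
      rw [← h3]
      exact orderOf_dvd_natCard σ
    have h4 : orderOf σ ∣ 1 := by
      rw [← Nat.Coprime.gcd_eq_one hrs]
      exact Nat.dvd_gcd h1 h2
    exact orderOf_eq_one_iff.1 (Nat.dvd_one.1 h4)
  intro x hx
  have h1 := H912.conjSub_coe hN ⟨g, hgK⟩ ⟨x, hx⟩
  have h2 : (H912.conjSub hN ⟨g, hgK⟩ ⟨x, hx⟩ : K) = ⟨x, hx⟩ := by
    change σ ⟨x, hx⟩ = ⟨x, hx⟩
    rw [hσ1]; rfl
  rw [h2] at h1
  have h3 : x = (g : Matrix ι ι F) * x * ((g⁻¹ : GL ι F) : Matrix ι ι F) := h1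
  conv_rhs => rw [h3]
  rw [Matrix.mul_assoc, ← Units.val_mul, inv_mul_cancel, Units.val_one, Matrix.mul_one]

theorem comm_lin {K : Subalgebra F (Matrix ι ι F)} {g : GL ι F} (h : ∀ x ∈ K, (g : Matrix ι ι F) * x = x * (g : Matrix ι ι F))
    {J : Matrix ι ι F} (hJ : J ∈ K) (v : ι → F) : Matrix.toLin' J (lin g v) = lin g (Matrix.toLin' J v) := by
  rw [lin, Matrix.toLin'_apply, Matrix.toLin'_apply, Matrix.toLin'_apply, Matrix.toLin'_apply,
    Matrix.mulVec_mulVec, Matrix.mulVec_mulVec, h J hJ]

/-- a quadratic field commutes with `g` and `g` has a canonical subspace of odd dimension: impossible. -/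
theorem no_field_of_odd [Nonempty ι] {K : Subalgebra F (Matrix ι ι F)} (hK : IsFieldSubalgebra 2 K)
    {g : GL ι F} (hgK : g ∈ subalgebraNormalizer K) {r : ℕ} (hr : Odd r) (hgr : g ^ r = 1) (k : ℕ)
    (hd : Odd (finrank F (LinearMap.range ((lin g - 1) ^ k)))) : False := by
  have hc := comm_field' hK hgK (Nat.coprime_two_right.2 hr) hgr
  refine (Nat.not_even_iff_odd.2 hd) (even_of_field hK fun J hJ w hw => ?_)
  obtain ⟨v, rfl⟩ := hw
  refine ⟨Matrix.toLin' J v, ?_⟩
  have h1 : Commute (Matrix.toLin' J) (lin g - 1) := by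
    apply Commute.sub_right
    · exact LinearMap.ext fun v => comm_lin hc hJ v
    · exact Commute.one_right _
  have h2 := congrArg (fun f : Module.End F (ι → F) => f v) (h1.pow_right k).eq
  change Matrix.toLin' J (((lin g - 1) ^ k) v) = ((lin g - 1) ^ k) (Matrix.toLin' J v) at h2
  rw [← h2, Matrix.toLin'_apply]

/-- **the field case**: no quadratic field is normalised by both `a` (irreducible, `a ^ (q⁴ + 1) = 1`) and `b`
(irreducible on `U`, `b ^ (q³ + 1) = 1`). -/
theorem field_false [Nonempty ι] {K : Subalgebra F (Matrix ι ι F)} (hK : IsFieldSubalgebra 2 K)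
    {a b : GL ι F} (haK : a ∈ subalgebraNormalizer K) (hbK : b ∈ subalgebraNormalizer K)
    (ha : ∀ v, Q (lin a v) = Q v) (hb : ∀ v, Q (lin b v) = Q v) {k l : ℕ} (hk : Even k) (hl : Odd l)
    (hak : a ^ (Nat.card F ^ k + 1) = 1) (hbl : b ^ (Nat.card F ^ l + 1) = 1)
    {m n : ℕ} (hm : Odd m) (hn : Odd n) (ham : a ^ m = 1) (hbn : b ^ n = 1)
    (hairr : ∀ W : Submodule F (ι → F), Inv (lin a) W → W = ⊥ ∨ W = ⊤)
    {U : Submodule F (ι → F)} (hU : Nondeg (res Q U)) (hU0 : U ≠ ⊥) (hbU : Inv (lin b) U)
    (hbirr : ∀ W ≤ U, Inv (lin b) W → W = ⊥ ∨ W = U)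
    (hJU : ∀ J : Module.End F (ι → F), (∀ v, J (lin b v) = lin b (J v)) → Inv J U) : False := by
  have hca := comm_field' hK haK (Nat.coprime_two_right.2 hm) ham
  have hcb := comm_field' hK hbK (Nat.coprime_two_right.2 hn) hbn
  let _ : Field K := (H912.isField_of_fieldSub hK).toField
  have hfd : Module.Finite F K := inferInstance
  have hKfin : Finite K := Module.finite_of_finite F
  let _ : Fintype K := Fintype.ofFinite K
  have hcard : Fintype.card K = Nat.card F ^ 2 := by
    rw [Module.card_eq_pow_finrank (K := F) (V := K), hK.finrank_eq, Nat.card_eq_fintype_card]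
  have hq := one_lt_q F
  have hlin : ∀ (J : Matrix ι ι F) (n : ℕ), Matrix.toLin' (J ^ n) = (Matrix.toLin' J) ^ n := by
    intro J n
    exact map_pow (Matrix.toLinAlgEquiv' : Matrix ι ι F ≃ₐ[F] _) J n
  have hpow : ∀ J ∈ K, J ^ (Nat.card F ^ 2) = J := by
    intro J hJ
    have h1 := FiniteField.pow_card (⟨J, hJ⟩ : K)
    rw [hcard] at h1
    exact congrArg Subtype.val h1
  have hpow2 : ∀ J ∈ K, ∀ j : ℕ, J ^ (Nat.card F ^ (2 * j)) = J := by
    intro J hJ j
    induction j with
    | zero => simp
    | succ j ih => rw [show 2 * (j + 1) = 2 * j + 2 by ring, pow_add, pow_mul, ih, hpow J hJ]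
  have hmain : ∀ J ∈ K, J ^ (Nat.card F) = J := by
    intro J hJ
    set T : Module.End F (ι → F) := Matrix.toLin' J with hT
    have hTa : ∀ v, T (lin a v) = lin a (T v) := fun v => comm_lin hca hJ v
    have hTb : ∀ v, T (lin b v) = lin b (T v) := fun v => comm_lin hcb hJ v
    have hTU := hJU T hTb
    have hlinpow : ∀ (g : GL ι F) (n : ℕ), g ^ n = 1 → (lin g) ^ n = 1 := by
      intro g n h
      rw [← H251.GeoCard.toLin_pow, h]; exact lin_one
    obtain ⟨k', rfl⟩ := hk
    obtain ⟨l', rfl⟩ := hl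
    have h1 : ∀ u v, polar Q (T u) v = polar Q u (T v) := by
      intro u v
      have h := adj_main (Q := Q) (x := lin a) (J := T) (U := ⊤) H951.inv_top (fun W _ hW => hairr W hW)
        H951.inv_top hTa ha (hlinpow a _ hak) (u := u) (v := v) Submodule.mem_top Submodule.mem_top
      rw [h, hT, ← hlin, show k' + k' = 2 * k' by ring, hpow2 J hJ]
    have h2 : ∀ u ∈ U, ∀ v ∈ U, polar Q (T u) v = polar Q u (Matrix.toLin' (J ^ (Nat.card F)) v) := by
      intro u hu v hv
      have h := adj_main (Q := Q) (x := lin b) (J := T) (U := U) hbU hbirr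
        hTU hTb hb (hlinpow b _ hbl) (u := u) (v := v) hu hv
      rw [h, hT, ← hlin, pow_add, pow_mul, hpow2 J hJ, pow_one]
    have hJqU : ∀ v ∈ U, Matrix.toLin' (J ^ (Nat.card F)) v ∈ U := by
      intro v hv
      rw [hlin]
      exact hTU.pow _ v hv
    have h3 : ∀ v ∈ U, Matrix.toLin' (J ^ (Nat.card F) - J) v = 0 := by
      intro v hv
      have h4 : Matrix.toLin' (J ^ (Nat.card F) - J) v = Matrix.toLin' (J ^ (Nat.card F)) v - T v := by
        rw [map_sub, LinearMap.sub_apply]
      have h5 : Matrix.toLin' (J ^ (Nat.card F) - J) v ∈ U := by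
        rw [h4]; exact U.sub_mem (hJqU v hv) (hTU v hv)
      have h6 := hU ⟨_, h5⟩ fun w => by
        rw [polar_res]
        change polar Q (Matrix.toLin' (J ^ (Nat.card F) - J) v) w = 0
        rw [polar_comm, h4, polar_sub_right, ← h2 w w.2 v hv, h1, sub_self]
      exact congrArg Subtype.val h6
    obtain ⟨v, hv, hv0⟩ := (Submodule.ne_bot_iff U).1 hU0
    by_contra hne
    have hJ2 : J ^ (Nat.card F) - J ∈ K := K.sub_mem (K.pow_mem hJ _) hJ
    have hne2 : (⟨_, hJ2⟩ : K) ≠ 0 := fun h => hne (sub_eq_zero.1 (congrArg Subtype.val h))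
    have h7 : (⟨_, hJ2⟩ : K)⁻¹ * ⟨_, hJ2⟩ = 1 := inv_mul_cancel₀ hne2
    have h8 : (((⟨_, hJ2⟩ : K)⁻¹ : K) : Matrix ι ι F) * (J ^ (Nat.card F) - J) = 1 := congrArg Subtype.val h7
    apply hv0
    have h9 : Matrix.toLin' (1 : Matrix ι ι F) v = v := by simp
    rw [← h9, ← h8, Matrix.toLin'_mul, LinearMap.comp_apply, h3 v hv, map_zero]
  -- all elements of `K` are roots of `X ^ q - X`
  have hroots : ∀ z : K, z ∈ (Polynomial.X ^ (Nat.card F) - Polynomial.X : K[X]).roots := by
    intro z
    rw [Polynomial.mem_roots (FiniteField.X_pow_card_sub_X_ne_zero K hq)]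
    rw [Polynomial.IsRoot.def, Polynomial.eval_sub, Polynomial.eval_pow, Polynomial.eval_X, sub_eq_zero]
    exact Subtype.ext (hmain z z.2)
  have h1 : Fintype.card K ≤ Nat.card F := by
    classical
    have h2 : (Finset.univ : Finset K) ⊆ (Polynomial.X ^ (Nat.card F) - Polynomial.X : K[X]).roots.toFinset := by
      intro z _
      exact Multiset.mem_toFinset.2 (hroots z)
    calc Fintype.card K = (Finset.univ : Finset K).card := rfl
      _ ≤ _ := Finset.card_le_card h2
      _ ≤ Multiset.card (Polynomial.X ^ (Nat.card F) - Polynomial.X : K[X]).roots := Multiset.toFinset_card_le _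
      _ ≤ (Polynomial.X ^ (Nat.card F) - Polynomial.X : K[X]).natDegree := Polynomial.card_roots' _
      _ = Nat.card F := FiniteField.X_pow_card_sub_X_natDegree_eq K hq
  rw [hcard, pow_two] at h1
  nlinarith

end Field

end Cfsg.Agent.H975.Cov
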