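import Cfsg.Agent.H884.ElT
import Cfsg.Agent.H955.QMinus

/-!
# A unipotent isometry with blocks `J₅ ⊕ J₃` in minus type, dimension eight, odd characteristic
(TEAM COV, helper975)
-/

set_option autoImplicit false
set_option linter.unusedSectionVars false

namespace Cfsg.Agent.H975.Cov

open Module QuadraticMap Cfsg Cfsg.Geo Cfsg.Agent.LieClassical.OrthCore Cfsg.Agent.H955 Cfsg.Agent.H954.TSing
open Cfsg.Agent.H884.El
open Cfsg.Agent.LieClassical.QuadForms (minusForm coe_minusForm)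
open scoped MatrixGroups Matrix

section

variable {F : Type} [Field F]

/-- coordinates. -/
def mk8 (a1 a2 a3 b1 b2 b3 c1 c2 : F) : (Fin 3 ⊕ Fin 3) ⊕ Fin 2 → F :=
  Sum.elim (Sum.elim ![a1, a2, a3] ![b1, b2, b3]) ![c1, c2]

theorem mk8_eta (x : (Fin 3 ⊕ Fin 3) ⊕ Fin 2 → F) :
    mk8 (x (.inl (.inl 0))) (x (.inl (.inl 1))) (x (.inl (.inl 2))) (x (.inl (.inr 0))) (x (.inl (.inr 1)))
      (x (.inl (.inr 2))) (x (.inr 0)) (x (.inr 1)) = x := by
  funext i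
  rcases i with (i | i) | i <;> fin_cases i <;> rfl

theorem mk8_add (a1 a2 a3 b1 b2 b3 c1 c2 a1' a2' a3' b1' b2' b3' c1' c2' : F) :
    mk8 a1 a2 a3 b1 b2 b3 c1 c2 + mk8 a1' a2' a3' b1' b2' b3' c1' c2' =
      mk8 (a1 + a1') (a2 + a2') (a3 + a3') (b1 + b1') (b2 + b2') (b3 + b3') (c1 + c1') (c2 + c2') := by
  funext i
  rcases i with (i | i) | i <;> fin_cases i <;> rfl

theorem mk8_sub (a1 a2 a3 b1 b2 b3 c1 c2 a1' a2' a3' b1' b2' b3' c1' c2' : F) :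
    mk8 a1 a2 a3 b1 b2 b3 c1 c2 - mk8 a1' a2' a3' b1' b2' b3' c1' c2' =
      mk8 (a1 - a1') (a2 - a2') (a3 - a3') (b1 - b1') (b2 - b2') (b3 - b3') (c1 - c1') (c2 - c2') := by
  funext i
  rcases i with (i | i) | i <;> fin_cases i <;> rfl

theorem mk8_smul (c a1 a2 a3 b1 b2 b3 c1 c2 : F) :
    c • mk8 a1 a2 a3 b1 b2 b3 c1 c2 = mk8 (c * a1) (c * a2) (c * a3) (c * b1) (c * b2) (c * b3) (c * c1) (c * c2) := by
  funext i
  rcases i with (i | i) | i <;> fin_cases i <;> rfl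

theorem mk8_zero : mk8 0 0 0 0 0 0 0 0 = (0 : (Fin 3 ⊕ Fin 3) ⊕ Fin 2 → F) := by
  funext i
  rcases i with (i | i) | i <;> fin_cases i <;> rfl

theorem mk8_form (a b a1 a2 a3 b1 b2 b3 c1 c2 : F) :
    minusForm 3 F a b (mk8 a1 a2 a3 b1 b2 b3 c1 c2) =
      a1 * b1 + a2 * b2 + a3 * b3 + (c1 ^ 2 + a * c1 * c2 + b * c2 ^ 2) := by
  rw [coe_minusForm]
  unfold quadFormMinus
  rw [Fin.sum_univ_three]
  rfl

/-- the formula for `u`. -/
def uFun (h β : F) (a1 a2 a3 b1 b2 b3 c1 c2 : F) : (Fin 3 ⊕ Fin 3) ⊕ Fin 2 → F :=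
  mk8 (a1 - a2 + 2 * (c1 + h * c2) + b2) (a2 - 2 * (c1 + h * c2) - b2) (a3 - 2 * β * c2 - β * b3) b1 (b2 + b1) b3
    (c1 + b2 - h * b3) (c2 + b3)

/-- the unipotent map. -/
def uLin (h β : F) : Module.End F ((Fin 3 ⊕ Fin 3) ⊕ Fin 2 → F) where
  toFun x := uFun h β (x (.inl (.inl 0))) (x (.inl (.inl 1))) (x (.inl (.inl 2))) (x (.inl (.inr 0))) (x (.inl (.inr 1)))
      (x (.inl (.inr 2))) (x (.inr 0)) (x (.inr 1))
  map_add' x y := by
    simp only [uFun, mk8_add, Pi.add_apply]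
    congr 1 <;> ring
  map_smul' c x := by
    simp only [uFun, mk8_smul, Pi.smul_apply, smul_eq_mul, RingHom.id_apply]
    congr 1 <;> ring

theorem uLin_mk8 (h β a1 a2 a3 b1 b2 b3 c1 c2 : F) : uLin h β (mk8 a1 a2 a3 b1 b2 b3 c1 c2) =
    uFun h β a1 a2 a3 b1 b2 b3 c1 c2 := rfl

theorem nLin_mk8 (h β a1 a2 a3 b1 b2 b3 c1 c2 : F) : (uLin h β - 1) (mk8 a1 a2 a3 b1 b2 b3 c1 c2) =
    mk8 (-a2 + 2 * (c1 + h * c2) + b2) (-(2 * (c1 + h * c2)) - b2) (-(2 * β * c2) - β * b3) 0 b1 0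
    (b2 - h * b3) b3 := by
  rw [LinearMap.sub_apply, uLin_mk8, Module.End.one_apply, uFun, mk8_sub]
  congr 1 <;> ring

theorem nLin_four (h β a1 a2 a3 b1 b2 b3 c1 c2 : F) :
    ((uLin h β - 1 : Module.End F ((Fin 3 ⊕ Fin 3) ⊕ Fin 2 → F)) ^ 4) (mk8 a1 a2 a3 b1 b2 b3 c1 c2) =
    (2 * b1) • mk8 (1 : F) 0 0 0 0 0 0 0 := by
  have e : (uLin h β - 1) ^ 4 = (uLin h β - 1) * ((uLin h β - 1) * ((uLin h β - 1) * (uLin h β - 1))) := by
    simp only [pow_succ, pow_zero, one_mul, mul_assoc]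
  rw [e, Module.End.mul_apply, Module.End.mul_apply, Module.End.mul_apply, nLin_mk8, nLin_mk8, nLin_mk8, nLin_mk8,
    mk8_smul]
  congr 1 <;> ring

theorem nLin_five (h β : F) : (uLin h β - 1) ^ 5 = 0 := by
  refine LinearMap.ext fun x => ?_
  have hz : (uLin h β - 1) (mk8 (1 : F) 0 0 0 0 0 0 0) = 0 := by
    rw [nLin_mk8, ← mk8_zero]
    congr 1 <;> ring
  rw [← mk8_eta x, pow_succ', Module.End.mul_apply, nLin_four, map_smul, hz, smul_zero, LinearMap.zero_apply]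

theorem uLin_isom {a b h β : F} (ha : a = 2 * h) (hβ : β = b - h ^ 2) (x : (Fin 3 ⊕ Fin 3) ⊕ Fin 2 → F) :
    minusForm 3 F a b (uLin h β x) = minusForm 3 F a b x := by
  rw [← mk8_eta x, uLin_mk8, uFun, mk8_form, mk8_form, ha, hβ]
  ring

theorem uLin_fix {a b h β : F} (h2 : (2 : F) ≠ 0) (hβ0 : β ≠ 0) {x : (Fin 3 ⊕ Fin 3) ⊕ Fin 2 → F}
    (hx : uLin h β x = x) : minusForm 3 F a b x = 0 := by
  have h1 : (uLin h β - 1) x = 0 := by rw [LinearMap.sub_apply, hx, Module.End.one_apply, sub_self]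
  revert h1
  rw [← mk8_eta x]
  generalize x (.inl (.inl 0)) = a1
  generalize x (.inl (.inl 1)) = a2
  generalize x (.inl (.inl 2)) = a3
  generalize x (.inl (.inr 0)) = b1
  generalize x (.inl (.inr 1)) = b2
  generalize x (.inl (.inr 2)) = b3
  generalize x (.inr 0) = c1
  generalize x (.inr 1) = c2
  intro h1
  rw [nLin_mk8] at h1
  have e2 : -(2 * (c1 + h * c2)) - b2 = 0 := congrFun h1 (.inl (.inl 1))
  have e3 : -(2 * β * c2) - β * b3 = 0 := congrFun h1 (.inl (.inl 2))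
  have e5 : b1 = 0 := congrFun h1 (.inl (.inr 1))
  have e7 : b2 - h * b3 = 0 := congrFun h1 (.inr 0)
  have e8 : b3 = 0 := congrFun h1 (.inr 1)
  have hb2 : b2 = 0 := by rw [e8, mul_zero, sub_zero] at e7; exact e7
  have hc2 : c2 = 0 := by
    rw [e8, mul_zero, sub_zero, neg_eq_zero] at e3
    rcases mul_eq_zero.1 e3 with h | h
    · exact absurd h (mul_ne_zero h2 hβ0)
    · exact h
  have hc1 : c1 = 0 := by
    rw [hb2, hc2, mul_zero, add_zero, sub_zero, neg_eq_zero] at e2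
    rcases mul_eq_zero.1 e2 with h | h
    · exact absurd h h2
    · exact h
  rw [mk8_form, e5, hb2, e8, hc1, hc2]
  ring

theorem nLin_range {h β : F} (h2 : (2 : F) ≠ 0) :
    finrank F (LinearMap.range ((uLin h β - 1) ^ 4)) = 1 := by
  have hne : mk8 (1 : F) 0 0 0 0 0 0 0 ≠ 0 := by
    intro h0
    have : (1 : F) = 0 := congrFun h0 (.inl (.inl 0))
    exact one_ne_zero this
  have h1 : LinearMap.range ((uLin h β - 1) ^ 4) = Submodule.span F {mk8 (1 : F) 0 0 0 0 0 0 0} := by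
    apply le_antisymm
    · rintro _ ⟨x, rfl⟩
      rw [← mk8_eta x, nLin_four]
      exact Submodule.smul_mem _ _ (Submodule.mem_span_singleton_self _)
    · rw [Submodule.span_singleton_le_iff_mem]
      refine ⟨mk8 0 0 0 (2⁻¹) 0 0 0 0, ?_⟩
      rw [nLin_four, mul_inv_cancel₀ h2, one_smul]
  rw [h1]
  exact finrank_span_singleton hne

theorem uLin_pow {p : ℕ} (hp : p.Prime) (hp3 : 3 ≤ p) [CharP F p] (h β : F) : uLin h β ^ (p ^ 3) = 1 := by
  have := Fact.mk hp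
  have hch : CharP (Module.End F ((Fin 3 ⊕ Fin 3) ⊕ Fin 2 → F)) p :=
    charP_of_injective_algebraMap (algebraMap F (Module.End F ((Fin 3 ⊕ Fin 3) ⊕ Fin 2 → F))).injective p
  have h1 := sub_pow_char_pow_of_commute (p := p) (n := 3) (x := uLin h β) (y := 1) (Commute.one_right _)
  have h5 : 5 ≤ p ^ 3 := by
    have : 3 ^ 3 ≤ p ^ 3 := Nat.pow_le_pow_left hp3 3
    omega
  obtain ⟨k, hk⟩ := Nat.exists_eq_add_of_le h5
  rw [hk, pow_add (uLin h β - 1), nLin_five, zero_mul, ← hk, one_pow] at h1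
  exact (sub_eq_zero.1 h1.symm)

end

end Cfsg.Agent.H975.Cov
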